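import Cfsg.Agent.H945.Count
import Cfsg.Agent.H135.TorusTab
import Cfsg.Agent.Nodes.RGDChev

/-!
# The number of `p`-regular classes of the Chevalley groups with trivial simply connected centre, helper945

`card_regular_chev` : it is `q ^ rank` for G₂, F₄, E₈, for E₆ if `q ≢ 1 mod 3` and for B₂, D₄, E₇ if `q` is even
(`H135.TorusTab.Full D q`).
-/

set_option autoImplicit false
set_option linter.unusedSectionVars false

namespace Cfsg.Agent.H945

open CoxeterSystem Cfsg.Agent.ChevalleyStructure.CoxeterGeom Cfsg.Agent.Tits.Roots Cfsg.Agent.Tits.Core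
  Cfsg.Agent.Nodes.Reps Cfsg.Agent.Nodes.BNOf
open Cfsg.Lie Cfsg.Agent.ChevalleyStructure.Elts Cfsg.Agent.Nodes.RGDChev
open Cfsg.Agent.H135.TorusTab Cfsg.Agent.ChevalleyStructure.TorusCount Cfsg.Agent.ChevalleyStructure.TorusRange

theorem exists_isType {D : ChevalleyDatum} (hD : D ∈ Types) : ∃ M : CoxeterMatrix (Fin D.rank), IsType D D.rank M := by
  have h1 : ∃ (l : ℕ) (M : CoxeterMatrix (Fin l)), IsType D l M := by
    simp only [Types, List.mem_cons, List.not_mem_nil, or_false] at hD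
    rcases hD with rfl | rfl | rfl | rfl | rfl | rfl | rfl
    · exact ⟨2, CoxeterMatrix.G₂, by simp [IsType, typeList]⟩
    · exact ⟨2, CoxeterMatrix.B 2, by simp [IsType, typeList]⟩
    · exact ⟨4, _root_.Cfsg.Lie.coxeterD4, by simp [IsType, typeList]⟩
    · exact ⟨4, CoxeterMatrix.F₄, by simp [IsType, typeList]⟩
    · exact ⟨6, CoxeterMatrix.E₆, by simp [IsType, typeList]⟩
    · exact ⟨7, CoxeterMatrix.E₇, by simp [IsType, typeList]⟩
    · exact ⟨8, CoxeterMatrix.E₈, by simp [IsType, typeList]⟩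
  obtain ⟨l, M, hp⟩ := h1
  have h2 := hp.rank_eq
  subst h2
  exact ⟨M, hp⟩

/-- **The number of `p`-regular classes.** -/
theorem card_regular_chev {F : Type*} [Field F] [Fintype F] {q : ℕ} (hq : Fintype.card F = q) (p : ℕ) [Fact p.Prime]
    [CharP F p] {D : ChevalleyDatum} (hD : Full D q) :
    Nat.card {c : ConjClasses ↥(D.group F) // ∃ g : ↥(D.group F), ConjClasses.mk g = c ∧ (orderOf g).Coprime p} =
      q ^ D.rank := by
  obtain ⟨M, hp⟩ := exists_isType hD.mem
  let cs : CoxeterSystem M M.Group := M.toCoxeterSystem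
  have hW : Finite M.Group := finite_W hp cs
  have R := rgd (K := F) hp cs p
  set T : Subgroup ↥(D.group F) := (D.diagonalSubgroup F).subgroupOf (D.group F) with hT
  set n : Fin D.rank → ↥(D.group F) := fun i => (⟨nn hp F i, nn_mem_group hp i⟩ : ↥(D.group F)) with hn
  set X : (Fin D.rank → ℤ) → Subgroup ↥(D.group F) := fun x => (XV D D.rank F x).subgroupOf (D.group F) with hX
  have hG : Cfsg.Agent.Nodes.Bruhat.GG cs hp.isCartan T X = ⊤ := by
    unfold Cfsg.Agent.Nodes.Bruhat.GG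
    have h1 : RGD.Sup X {x | IsRoot cs hp.isCartan x} = ⊤ := G1_eq_top hp cs
    rw [h1, sup_top_eq]
  -- the rank one groups
  have hLL : ∀ i : Fin D.rank, ∀ g : ↥(D.group F), g ∈ X (sr i) ⊔ X (-sr i) ↔
      (g : GL D.Idx F) ∈ D.rootSubgroup F (D.simple i) ⊔ D.rootSubgroup F (D.neg (D.simple i)) := by
    intro i g
    change g ∈ (XV D D.rank F (sr i)).subgroupOf (D.group F) ⊔ (XV D D.rank F (-sr i)).subgroupOf (D.group F) ↔ _
    rw [← Subgroup.subgroupOf_sup (XV_le_group hp _) (XV_le_group hp _), Subgroup.mem_subgroupOf, XV_sr hp i,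
      XV_neg_sr hp i]
  have hnL : ∀ i, n i ∈ X (sr i) ⊔ X (-sr i) := by
    intro i
    rw [hLL]
    change nG hp.inList (D.simple i) 1 ∈ _
    rw [nG_def]
    exact mul_mem (Subgroup.mem_sup_left (xG_mem_rootSubgroup hp.inList _ _))
      (mul_mem (Subgroup.mem_sup_right (xG_mem_rootSubgroup hp.inList _ _))
        (Subgroup.mem_sup_left (xG_mem_rootSubgroup hp.inList _ _)))
  have hle : D.diagonalSubgroup F ≤ D.group F := diagonal_le_group hp.inList F
  have hmem : ∀ u, torusHom D F u ∈ D.diagonalSubgroup F := by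
    intro u
    rw [range_eq hD.mem]
    exact ⟨u, rfl⟩
  -- the torus
  let f : (Fin D.rank → Fˣ) →* T :=
    { toFun := fun u => ⟨⟨torusHom D F u, hle (hmem u)⟩, hmem u⟩
      map_one' := Subtype.ext (Subtype.ext (map_one _))
      map_mul' := fun u v => Subtype.ext (Subtype.ext (map_mul _ _ _)) }
  have hf : ∀ u, (((f u : T) : ↥(D.group F)) : GL D.Idx F) = torusHom D F u := fun _ => rfl
  have hinj := torusHom_injective (F := F) hq hD
  have hbij : Function.Bijective f := by
    constructor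
    · intro u v huv
      apply hinj
      rw [← hf, ← hf, huv]
    · rintro ⟨⟨t, ht⟩, ht'⟩
      have h1 : t ∈ D.diagonalSubgroup F := ht'
      rw [range_eq hD.mem] at h1
      obtain ⟨u, rfl⟩ := h1
      exact ⟨u, rfl⟩
  let e : (Fin D.rank → Fˣ) ≃* T := MulEquiv.ofBijective f hbij
  have hC : (Nat.card Fˣ).Coprime p := by
    rw [Nat.card_units, Nat.card_eq_fintype_card]
    have hpp : p.Prime := Fact.out
    obtain ⟨m, hm⟩ := FiniteField.card F p
    rw [Nat.coprime_comm, hpp.coprime_iff_not_dvd, hm.2]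
    intro h1
    have h2 : p ∣ p ^ (m : ℕ) := dvd_pow_self p m.2.ne'
    have h3 := (Nat.dvd_sub_iff_right (Nat.one_le_pow _ _ hpp.pos) h2).1 h1
    exact hpp.one_lt.ne' (Nat.dvd_one.1 h3)
  have he : ∀ i (t : T), (t : ↥(D.group F)) ∈ X (sr i) ⊔ X (-sr i) ↔ ∃ c, t = e (Pi.mulSingle i c) := by
    intro i t
    rw [hLL]
    constructor
    · intro ht
      have h1 : ((t : ↥(D.group F)) : GL D.Idx F) ∈ D.diagonalSubgroup F ⊓
          (D.rootSubgroup F (D.simple i) ⊔ D.rootSubgroup F (D.neg (D.simple i))) := ⟨t.2, ht⟩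
      rw [inf_eq hD.mem i] at h1
      obtain ⟨c, hc⟩ := h1
      exact ⟨c, Subtype.ext (Subtype.ext hc.symm)⟩
    · rintro ⟨c, rfl⟩
      exact hh_mem hD.mem i c
  have hmain := card_regular_of_torus R hG hnL hC e he
  rw [hmain, Nat.card_units, Nat.card_eq_fintype_card, hq, Fintype.card_fin]
  have hq1 : 1 ≤ q := by rw [← hq]; exact Fintype.card_pos
  rw [Nat.sub_add_cancel hq1]

end Cfsg.Agent.H945
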