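import Cfsg.Agent.H945.Exist
import Cfsg.Agent.Nodes.CommonNorm
import Cfsg.Agent.Nodes.LeviStd

/-!
# The torus of a Levi subgroup, helper945

If `n i ∈ ⟨X_i, X_{-i}⟩` then `T ∩ ⟨X x : x ∈ RootsJ J⟩` is generated by the `T ∩ ⟨X_j, X_{-j}⟩`, `j ∈ J`.
-/

set_option autoImplicit false
set_option linter.unusedSectionVars false

namespace Cfsg.Agent.H945

open CoxeterSystem Cfsg.Agent.ChevalleyStructure.CoxeterGeom Cfsg.Agent.Tits.Roots Cfsg.Agent.Tits.Core
  Cfsg.Agent.Tits.Exchange Cfsg.Agent.Nodes.Reps Cfsg.Agent.Nodes.BNOf Cfsg.Agent.Nodes.StabComb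
  Cfsg.Agent.Nodes.Bruhat Cfsg.Agent.Nodes.OppDec Cfsg.Agent.Nodes.LeviDec Cfsg.Agent.KFacts.RgdOpp
  Cfsg.Agent.Nodes.FreeTorus Cfsg.Agent.Nodes.CommonNorm Cfsg.Agent.Nodes.LeviStd Cfsg.Agent.Nodes.SubComb
  Cfsg.Agent.Nodes.Sub
open Cfsg.Agent.Omega.CR
open scoped commutatorElement

section

variable {I W Y : Type*} [Fintype I] [DecidableEq I] [Group W] [Group Y] {M : CoxeterMatrix I}
  {cs : CoxeterSystem M W} {A : I → I → ℤ} {h : IsCartan M A} {p : ℕ} {T : Subgroup Y} {n : I → Y}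
  {X : (I → ℤ) → Subgroup Y}

theorem T_norm_LL (R : RGD cs h p T n X) (i : I) : T ≤ Subgroup.normalizer (LL X (sr i) : Set Y) := by
  intro t ht
  rw [mem_normalizer_iff_cj]
  unfold LL
  rw [cj_sup, R.tor _ (isRoot_sr cs h i) t ht, R.tor _ (isRoot_sr cs h i).neg t ht]

theorem conj_n_iSup (R : RGD cs h p T n X) (hn : ∀ i, n i ∈ LL X (sr i)) (j : I) :
    cj (n j) (⨆ i : I, T ⊓ LL X (sr i)) ≤ ⨆ i : I, T ⊓ LL X (sr i) := by
  rw [cj_iSup]
  refine iSup_le fun i => ?_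
  intro x hx
  rw [mem_cj] at hx
  obtain ⟨hx1, hx2⟩ := hx
  set t : Y := (n j)⁻¹ * x * n j with ht
  have e : x = (n j * (t * (n j)⁻¹ * t⁻¹)) * t := by rw [ht]; group
  have h1 : n j * (t * (n j)⁻¹ * t⁻¹) ∈ LL X (sr j) :=
    mul_mem (hn j) ((Subgroup.mem_normalizer_iff.1 (T_norm_LL R j hx1) _).1 (inv_mem (hn j)))
  have h2 : n j * (t * (n j)⁻¹ * t⁻¹) ∈ T := by
    have e2 : n j * (t * (n j)⁻¹ * t⁻¹) = (n j * t * (n j)⁻¹) * t⁻¹ := by group
    rw [e2]
    exact mul_mem (conj_n_T R j hx1) (inv_mem hx1)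
  rw [e]
  exact mul_mem (le_iSup (fun i : I => T ⊓ LL X (sr i)) j ⟨h2, h1⟩)
    (le_iSup (fun i : I => T ⊓ LL X (sr i)) i ⟨hx1, hx2⟩)

theorem TT_le_T [Finite W] (R : RGD cs h p T n X) {x : I → ℤ} (hx : IsRoot cs h x) : TT cs h X x ≤ T := by
  intro g hg
  rw [← HH_inf_GG R]
  refine ⟨hg.2, ?_⟩
  have h1 : LL X x ≤ GG cs h T X := by
    refine le_trans ?_ (le_sup_right (a := T) (b := RGD.Sup X {x | IsRoot cs h x}))
    exact sup_le (RGD.le_Sup (S := {x | IsRoot cs h x}) hx) (RGD.le_Sup (S := {x | IsRoot cs h x}) hx.neg)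
  exact h1 hg.1

theorem TT_word_le [Finite W] (R : RGD cs h p T n X) (hn : ∀ i, n i ∈ LL X (sr i)) (i : I) (ω : List I) :
    TT cs h X (rep cs h (cs.wordProd ω) (sr i)) ≤ ⨆ i : I, T ⊓ LL X (sr i) := by
  induction ω with
  | nil =>
    rw [wordProd_nil, map_one, Module.End.one_apply]
    exact le_trans (le_inf (TT_le_T R (isRoot_sr cs h i)) inf_le_left)
      (le_iSup (fun i : I => T ⊓ LL X (sr i)) i)
  | cons j ω ih =>
    rw [wordProd_cons, rep_mul_apply]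
    have h1 : IsRoot cs h (rep cs h (cs.wordProd ω) (sr i)) := ⟨_, _, rfl⟩
    rw [← (acts_of_rp R (rp_simple cs R.nsys j)).cj_TT h1]
    exact (cj_mono (n j) ih).trans (conj_n_iSup R hn j)

theorem TA_le_iSup [Finite W] (R : RGD cs h p T n X) (hn : ∀ i, n i ∈ LL X (sr i)) :
    TA cs h X ≤ ⨆ i : I, T ⊓ LL X (sr i) := by
  unfold TA
  refine iSup_le ?_
  rintro ⟨x, w, i, rfl⟩
  obtain ⟨ω, rfl⟩ := cs.wordProd_surjective w
  exact TT_word_le R hn i ω

/-- the datum with the smaller torus -/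
theorem rgd_TA [Finite Y] [Finite W] (R : RGD cs h p T n X) (hn : ∀ i, n i ∈ LL X (sr i)) :
    RGD cs h p (TA cs h X) n X := by
  have hA : ∀ i, Acts cs h X (cs.simple i) (n i) := fun i => acts_of_rp R (rp_simple cs R.nsys i)
  refine rgd_of_family hn hA R.comm ?_ R.pgrp R.notp ?_
  · intro i u hu hu1
    obtain ⟨a, ha, t, ht, b, hb, e⟩ := R.rk1 i u hu hu1
    refine ⟨a, ha, t * n i, ?_, b, hb, by rw [e]; group, ?_⟩
    · have e1 : t * n i = a⁻¹ * u * b⁻¹ := by rw [e]; group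
      rw [e1]
      exact mul_mem (mul_mem (inv_mem (Subgroup.mem_sup_left ha)) (Subgroup.mem_sup_right hu))
        (inv_mem (Subgroup.mem_sup_left hb))
    · have h1 := (acts_of_rp R (rp_of_mem ht)).mul (hA i)
      rwa [one_mul] at h1
  · intro i
    exact Nat.Coprime.coprime_dvd_left (Subgroup.card_dvd_of_le (TT_le_T R (isRoot_sr cs h i))) R.tcop

/-- the torus of the group generated by the root groups -/
theorem T_inf_Sup [Finite Y] [Finite W] (R : RGD cs h p T n X) (hn : ∀ i, n i ∈ LL X (sr i)) :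
    T ⊓ RGD.Sup X {x | IsRoot cs h x} ≤ ⨆ i : I, T ⊓ LL X (sr i) := by
  refine le_trans ?_ (TA_le_iSup R hn)
  rw [← HH_inf_GG (rgd_TA R hn)]
  exact le_inf (inf_le_left.trans (T_le_HH R)) (inf_le_right.trans le_sup_right)

/-- **The torus of a Levi subgroup.** -/
theorem T_inf_DJ [Finite Y] [Finite W] (R : RGD cs h p T n X) (hn : ∀ i, n i ∈ LL X (sr i)) (J : Set I) :
    T ⊓ DJ cs h X J ≤ ⨆ j : J, T ⊓ LL X (sr (j : I)) := by
  classical
  have : Fintype J := Fintype.ofFinite J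
  let f : J ↪ I := Function.Embedding.subtype _
  have hfr : Set.range f = J := Subtype.range_coe
  let cs' := (leviMatrix f M).toCoxeterSystem
  have hfin : Finite (leviMatrix f M).Group := finite_of cs h f (fun _ _ => rfl) cs'
  have R' := rgd_levi R f cs'
  have hLL : ∀ j : J, LL (fun c => X (iota (fun j => sr (f j)) c)) (sr j) = LL X (sr (j : I)) := by
    intro j
    unfold LL
    change X (iota (fun j => sr (f j)) (sr j)) ⊔ X (iota (fun j => sr (f j)) (-sr j)) = _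
    rw [map_neg, iota_sr]
    rfl
  have hn' : ∀ j : J, n (f j) ∈ LL (fun c => X (iota (fun j => sr (f j)) c)) (sr j) := by
    intro j
    rw [hLL]
    exact hn (f j)
  have h1 := T_inf_Sup R' hn'
  refine le_trans (inf_le_inf_left T ?_) (h1.trans ?_)
  · unfold DJ
    refine RGD.Sup_le fun x hx => ?_
    rw [← hfr, mem_RootsJ_range_iff' f (fun _ _ => rfl) (fun _ _ => rfl) cs' (levi_isCartan f h)] at hx
    obtain ⟨c, hc, rfl⟩ := hx
    exact RGD.le_Sup (X := fun c => X (iota (fun j => sr (f j)) c)) (S := {x | IsRoot cs' (levi_isCartan f h) x}) hc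
  · refine iSup_mono fun j => ?_
    rw [hLL]

end

end Cfsg.Agent.H945
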