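import Cfsg.Agent.H414.Vasiliev
import Cfsg.Agent.H164.NoPsl34
import Cfsg.Agent.H164.ExplElt
import Cfsg.Agent.H380.AltSpecTen
import Cfsg.Agent.H379.J2Spec
import Cfsg.Agent.H422.ElimSp
import Cfsg.Agent.H366.UFourThree
import Cfsg.Agent.H372.OrthTwo
import Cfsg.Agent.S3720
import Cfsg.Agent.S2366
import Cfsg.Agent.S2475
import Cfsg.Agent.S0256
import Cfsg.Agent.H414.Spec
import Cfsg.Agent.H436.Simple

/-!
# Groups with the element orders of `A₈ = L₄(2)` (helper945, task 662 for S3456, S3457)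
-/

set_option autoImplicit false

open Cfsg

namespace Cfsg.Agent.H945.LFour

open Subgroup Cfsg.Agent.H414 Cfsg.Agent.H414.Comp Cfsg.Agent.H414.Vasiliev Cfsg.Agent.H414.QuatSec

/-- Sylow 2-subgroups of nonabelian simple groups are not cyclic and not generalized quaternion. -/
theorem not_isQ {S : Type*} [Group S] [Finite S] [IsSimpleGroup S] (hc : ∃ a b : S, a * b ≠ b * a)
    (h2 : 2 ∣ Nat.card S) (Q : Sylow 2 S) : ¬ IsQ ↥(Q : Subgroup S) := by
  rintro (hQ | ⟨n, ⟨e⟩⟩)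
  · exact not_isCyclic_sylow hc h2 Q hQ
  · rcases n with _ | n
    · apply not_isCyclic_sylow hc h2 Q
      have h1 := QuaternionGroup.quaternionGroup_one_isCyclic
      rw [pow_zero] at e
      exact isCyclic_of_surjective e.symm e.symm.surjective
    · have hcz := Cfsg.Agent.S0201.result Q n e (by
        intro N hN hodd
        rcases hN.eq_bot_or_eq_top with h | h
        · exact h
        · exfalso
          rw [h, Subgroup.card_top, ← Nat.not_even_iff_odd] at hodd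
          exact hodd (even_iff_two_dvd.2 h2))
      have hcb : Subgroup.center S = ⊥ := by
        rcases (inferInstance : (Subgroup.center S).Normal).eq_bot_or_eq_top with h1 | h1
        · exact h1
        · exfalso
          obtain ⟨a, b, hab⟩ := hc
          have h2 : a ∈ Subgroup.center S := by rw [h1]; trivial
          exact hab ((Subgroup.mem_center_iff.1 h2 b).symm)
      rw [hcb, Subgroup.card_bot] at hcz
      norm_num at hcz

theorem IsQ.congr {T U : Type*} [Group T] [Group U] (e : T ≃* U) (h : IsQ T) : IsQ U := by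
  rcases h with h | ⟨n, ⟨f⟩⟩
  · exact Or.inl (isCyclic_of_surjective e e.surjective)
  · exact Or.inr ⟨n, ⟨e.symm.trans f⟩⟩

variable {G : Type*} [Group G] [Finite G]

/-- A coclique of three primes containing 2 : its odd members do not divide the order of the radical. -/
theorem not_dvd_rad (K : Subgroup G) [K.Normal] (hK : Group.IsSolvable ↥K) (hG : ¬ Group.IsSolvable G)
    (hKmax : ∀ M : Subgroup G, M.Normal → Group.IsSolvable ↥M → M ≤ K) {ρ : Finset ℕ} (hρ : Coc G ρ)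
    (h3 : 3 ≤ ρ.card) (h2 : 2 ∈ ρ) {p : ℕ} (hp : p ∈ ρ) (hp2 : p ≠ 2) : ¬ p ∣ Nat.card ↥K := by
  intro hpK
  have h2' : Fact (Nat.Prime 2) := ⟨Nat.prime_two⟩
  have hnt := nontrivial_quot hG K hK
  have hne : ¬ ∃ x : G, orderOf x = 2 * p := hρ.2 2 h2 p hp (Ne.symm hp2)
  obtain ⟨S, hS, hSn, hSc, -⟩ := Rad.structure_of_dvd_rad K (quot_radical K hK hKmax) (hρ.1 p hp).1 hp2 hpK hne
  have h2K : ¬ 2 ∣ Nat.card ↥K * S.index := by
    intro hcon
    exact hp2 (coclique K hK S hS hSc hρ h3 hp h2 (hpK.mul_right _) hcon)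
  obtain ⟨Q⟩ : Nonempty (Sylow 2 ↥S) := inferInstance
  have hQ' : IsPGroup 2 ↥((Q : Subgroup ↥S).map S.subtype) := Q.isPGroup'.map _
  obtain ⟨T, hT, hTQ, hTq⟩ := exists_isQ K (hρ.1 p hp).1 hp2 hpK hne _ hQ'
  have hsimple := hS.simple
  refine not_isQ hS.noncomm hS.two_dvd Q ?_
  let f : ↥T →* ↥((Q : Subgroup ↥S).map S.subtype) :=
    ((QuotientGroup.mk' K).domRestrict T).codRestrict _ fun y => by
      rw [← hTQ]; exact ⟨y, y.2, rfl⟩
  have hsurj : Function.Surjective f := by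
    rintro ⟨q, hq⟩
    rw [← hTQ] at hq
    obtain ⟨y, hy, rfl⟩ := hq
    exact ⟨⟨y, hy⟩, rfl⟩
  have hinj : Function.Injective f := by
    rw [injective_iff_map_eq_one]
    intro y hy
    have h1 : QuotientGroup.mk' K (y : G) = 1 := congrArg Subtype.val hy
    have h4 : (y : G) ∈ K := (QuotientGroup.eq_one_iff (y : G)).1 h1
    by_contra hne1
    obtain ⟨k, hk⟩ := (IsPGroup.iff_orderOf.1 hT) y
    have hk0 : k ≠ 0 := by
      rintro rfl
      rw [pow_zero, orderOf_eq_one_iff] at hk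
      exact hne1 hk
    apply h2K
    refine Dvd.dvd.mul_right ?_ _
    have h5 : orderOf (⟨(y : G), h4⟩ : ↥K) ∣ Nat.card ↥K := orderOf_dvd_natCard _
    rw [Subgroup.orderOf_mk, Subgroup.orderOf_coe, hk] at h5
    exact (dvd_pow_self 2 hk0).trans h5
  exact IsQ.congr (MulEquiv.ofBijective f ⟨hinj, hsurj⟩ |>.trans
    ((Q : Subgroup ↥S).equivMapOfInjective _ S.subtype_injective).symm) hTq

/-! ### Orders -/

/-- The element orders of the alternating group of degree eight. -/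
theorem eight_sub : ∀ x ∈ H380.AltSpec.T 8 8, x.2 = true → x.1 ∈ [1, 2, 3, 4, 5, 6, 7, 15] := by decide

theorem orders_eight (g : alternatingGroup (Fin 8)) : orderOf g ∈ [1, 2, 3, 4, 5, 6, 7, 15] :=
  eight_sub _ (H380.AltSpec.orderOf_mem_T g) rfl

theorem exists_eight {n : ℕ} (hn : n ∈ [1, 2, 3, 4, 5, 6, 7, 15]) : ∃ g : alternatingGroup (Fin 8), orderOf g = n := by
  simp only [List.mem_cons, List.not_mem_nil, or_false] at hn
  rcases hn with rfl | rfl | rfl | rfl | rfl | rfl | rfl | rfl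
  · exact ⟨1, orderOf_one⟩
  · exact H380.AltSpec.mem_range_of {2, 2} 2 (by decide) (by decide) (by decide) (by decide)
  · exact H380.AltSpec.mem_range_of {3} 3 (by decide) (by decide) (by decide) (by decide)
  · exact H380.AltSpec.mem_range_of {4, 2} 4 (by decide) (by decide) (by decide) (by decide)
  · exact H380.AltSpec.mem_range_of {5} 5 (by decide) (by decide) (by decide) (by decide)
  · exact H380.AltSpec.mem_range_of {3, 2, 2} 6 (by decide) (by decide) (by decide) (by decide)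
  · exact H380.AltSpec.mem_range_of {7} 7 (by decide) (by decide) (by decide) (by decide)
  · exact H380.AltSpec.mem_range_of {5, 3} 15 (by decide) (by decide) (by decide) (by decide)

theorem seven_sub : ∀ x ∈ H380.AltSpec.T 7 7, x.2 = true → x.1 ∈ [1, 2, 3, 4, 5, 6, 7] := by decide

theorem orders_seven (g : alternatingGroup (Fin 7)) : orderOf g ≠ 15 := by
  intro h
  have h1 := seven_sub _ (H380.AltSpec.orderOf_mem_T g) rfl
  have h2 : orderOf g ∈ [1, 2, 3, 4, 5, 6, 7] := h1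
  rw [h] at h2
  exact absurd h2 (by decide)

theorem exists_nine {n : ℕ} (hn : 9 ≤ n) : ∃ g : alternatingGroup (Fin n), orderOf g = 9 :=
  H380.AltSpec.mem_range_of {9} 9 (by simpa using hn) (by decide) (by decide) (by decide)

/-! ### Arithmetic -/

theorem thirteen {q m : ℕ} (hq : q = 2 ^ (2 * m + 1)) (h7 : 7 ∣ q - 1) : 13 ∣ q ^ 2 + 1 := by
  obtain ⟨a, b, hb, hm⟩ : ∃ a b : ℕ, b < 6 ∧ m = 6 * a + b :=
    ⟨m / 6, m % 6, Nat.mod_lt _ (by norm_num), (Nat.div_add_mod m 6).symm⟩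
  have h1 : q = (4096 : ℕ) ^ a * 2 ^ (2 * b + 1) := by
    rw [hq, hm, show 2 * (6 * a + b) + 1 = 12 * a + (2 * b + 1) by ring, pow_add, pow_mul]
    norm_num
  have h2 : q % 91 = 2 ^ (2 * b + 1) % 91 := by
    rw [h1, Nat.mul_mod, Nat.pow_mod]
    norm_num
  have hq1 : 1 ≤ q := by rw [hq]; exact Nat.one_le_two_pow
  have h3 : q % 7 = 1 := by
    obtain ⟨k, hk⟩ := h7
    omega
  have h4 : (q ^ 2 + 1) % 13 = ((q % 91) ^ 2 + 1) % 13 := by
    conv_lhs => rw [Nat.add_mod, Nat.pow_mod]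
    conv_rhs => rw [Nat.add_mod, Nat.pow_mod]
    rw [Nat.mod_mod_of_dvd q (by norm_num : 13 ∣ 91)]
  have h5 : q % 7 = (q % 91) % 7 := (Nat.mod_mod_of_dvd q (by norm_num : 7 ∣ 91)).symm
  apply Nat.dvd_of_mod_eq_zero
  rw [h4, h2]
  rw [h5, h2] at h3
  clear h1 h2 h4 h5 hm hq
  interval_cases b <;> revert h3 <;> decide

open Cfsg.Agent.H436 Cfsg.Agent.OrdDiv in
theorem kfl_three : ∀ g ∈ KFL, ordN g % 3 = 0 := by decide

open Cfsg.Agent.H436 Cfsg.Agent.OrdDiv in
/-- Simple groups with the prime divisors `2, 5, 7` and perhaps `3` : `3` divides the order. -/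
theorem three_dvd {S : Type*} [Group S] [Finite S] [IsSimpleGroup S] (hS : ¬ IsMulCommutative S)
    (h : (Nat.card S).primeFactors ⊆ {2, 3, 5, 7}) (h7 : 7 ∣ Nat.card S) : 3 ∣ Nat.card S := by
  obtain ⟨g, hg, h1⟩ := k_four_simple hS ((Finset.card_le_card h).trans (by decide))
  rcases h1 with ⟨q, rfl⟩ | ⟨q, rfl⟩ | h1
  · obtain ⟨-, -, hq⟩ := hg.cond
    have hf := psl_two_factors hq.two_le hg.eq
    have h2 : 3 ∈ (Nat.card S).primeFactors := by
      rw [hf]
      have hq2 := hq.two_le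
      refine Nat.mem_primeFactors.2 ⟨Nat.prime_three, ?_, ?_⟩
      · rcases (show q % 3 = 0 ∨ q % 3 = 1 ∨ q % 3 = 2 by omega) with h3 | h3
        · exact (Nat.dvd_of_mod_eq_zero h3).mul_right _
        · refine Dvd.dvd.mul_left ?_ _
          have h4 : q ^ 2 % 3 = 1 := by
            rcases h3 with h3 | h3 <;> rw [Nat.pow_mod, h3]
          omega
      · have h4 : 2 ^ 2 ≤ q ^ 2 := Nat.pow_le_pow_left hq2 2
        have h5 : 0 < q ^ 2 - 1 := by omega
        positivity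
    exact Nat.dvd_of_mem_primeFactors h2
  · exfalso
    obtain ⟨m, hm, rfl⟩ := hg.cond
    have h2 : 1 * Nat.card S = (2 ^ (2 * m + 1)) ^ 2 * ((2 ^ (2 * m + 1) - 1) * ((2 ^ (2 * m + 1)) ^ 2 + 1)) := hg.eq
    rw [one_mul] at h2
    have hdvd : ∀ p : ℕ, p.Prime → p ∣ Nat.card S → p ∈ ({2, 3, 5, 7} : Finset ℕ) := fun p hp hd =>
      h (Nat.mem_primeFactors.2 ⟨hp, hd, Nat.card_pos.ne'⟩)
    have h13 : ¬ 13 ∣ (2 ^ (2 * m + 1)) ^ 2 + 1 := by
      intro h13
      have := hdvd 13 (by norm_num) (by rw [h2]; exact (h13.mul_left _).mul_left _)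
      revert this
      decide
    have h7p : Nat.Prime 7 := by norm_num
    rw [h2] at h7
    rcases h7p.dvd_mul.1 h7 with h4 | h4
    · have := (Nat.prime_dvd_prime_iff_eq h7p Nat.prime_two).1
        (h7p.dvd_of_dvd_pow (h7p.dvd_of_dvd_pow h4))
      omega
    · rcases h7p.dvd_mul.1 h4 with h5 | h5
      · exact h13 (thirteen rfl h5)
      · have h6 : ∀ z : ZMod 7, z ^ 2 + 1 ≠ 0 := by decide
        apply h6 ((2 ^ (2 * m + 1) : ℕ) : ZMod 7)
        have h8 := (ZMod.natCast_eq_zero_iff _ 7).2 h5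
        exact_mod_cast h8
  · rw [hg.ord]
    exact Nat.dvd_of_mod_eq_zero (kfl_three g h1)

/-! ### `A₇` -/

theorem dvd_of_coe {K : Subgroup G} {z : G} {n : ℕ} (hz : orderOf z = n) (h : z ∈ K) : n ∣ Nat.card ↥K := by
  have h1 : orderOf (⟨z, h⟩ : K) ∣ Nat.card K := orderOf_dvd_natCard _
  rwa [Subgroup.orderOf_mk, hz] at h1

/-- a 7-cycle and a normalizing element of order 3 -/
def s0 : Equiv.Perm (Fin 7) := c[0, 1, 2, 3, 4, 5, 6]

def x0 : Equiv.Perm (Fin 7) := c[1, 2, 4] * c[3, 6, 5]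

theorem hs0 : s0 ∈ alternatingGroup (Fin 7) := by
  rw [Equiv.Perm.mem_alternatingGroup]; decide +kernel

theorem hx0 : x0 ∈ alternatingGroup (Fin 7) := by
  rw [Equiv.Perm.mem_alternatingGroup]; decide +kernel

theorem hrel : x0 * s0 = s0 * s0 * x0 := by decide +kernel

theorem hrelA : (⟨x0, hx0⟩ : alternatingGroup (Fin 7)) * ⟨s0, hs0⟩ = ⟨s0, hs0⟩ * ⟨s0, hs0⟩ * ⟨x0, hx0⟩ :=
  Subtype.ext hrel

theorem hs07 : s0 ^ 7 = 1 := by decide +kernel
theorem hs01 : s0 ≠ 1 := by decide +kernel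
theorem hx03 : x0 ^ 3 = 1 := by decide +kernel
theorem hx01 : x0 ≠ 1 := by decide +kernel

theorem ordA_s : orderOf (⟨s0, hs0⟩ : alternatingGroup (Fin 7)) = 7 := by
  rw [Subgroup.orderOf_mk]
  have : Fact (Nat.Prime 7) := ⟨by norm_num⟩
  exact orderOf_eq_prime hs07 hs01

theorem ordA_x : orderOf (⟨x0, hx0⟩ : alternatingGroup (Fin 7)) = 3 := by
  rw [Subgroup.orderOf_mk]
  have : Fact (Nat.Prime 3) := ⟨by norm_num⟩
  exact orderOf_eq_prime hx03 hx01

attribute [irreducible] s0 x0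

open Cfsg.Agent.H164.NoPsl34 in
/-- `A₇` is not a factor of a group with the orders of `A₈`. -/
theorem no_alt7 (K : Subgroup G) [K.Normal] (hK : Group.IsSolvable ↥K)
    (S : Subgroup (G ⧸ K)) [S.Normal] (e : ↥S ≃* alternatingGroup (Fin 7))
    (h7 : ¬ 7 ∣ Nat.card ↥K) (h5K : ¬ 5 ∣ Nat.card ↥K) (h5S : ¬ 5 ∣ S.index) (h9 : ¬ ∃ g : G, orderOf g = 9)
    (h7' : ∀ g : G, 7 ∣ orderOf g → orderOf g = 7) (h15 : ∃ g : G, orderOf g = 15) : False := by
  have : Fact (Nat.Prime 7) := ⟨by norm_num⟩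
  have : Fact (Nat.Prime 5) := ⟨by norm_num⟩
  have : Fact (Nat.Prime 3) := ⟨Nat.prime_three⟩
  set s : G ⧸ K := ((e.symm ⟨s0, hs0⟩ : S) : G ⧸ K) with hs
  set x : G ⧸ K := ((e.symm ⟨x0, hx0⟩ : S) : G ⧸ K) with hx
  have hsS : s ∈ S := SetLike.coe_mem _
  have hxS : x ∈ S := SetLike.coe_mem _
  have hso : orderOf s = 7 := by
    rw [hs, Subgroup.orderOf_coe, MulEquiv.orderOf_eq, ordA_s]
  have hxo : orderOf x = 3 := by
    rw [hx, Subgroup.orderOf_coe, MulEquiv.orderOf_eq, ordA_x]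
  have hxs : x * s = s * s * x := by
    rw [hx, hs, ← Subgroup.coe_mul, ← Subgroup.coe_mul, ← Subgroup.coe_mul, ← map_mul, ← map_mul, ← map_mul, hrelA]
  -- `K` is nilpotent
  obtain ⟨y, hy⟩ := lift_orderOf K ⟨s, hso⟩
  have hnil : Group.IsNilpotent K := by
    refine H366.Coclique.nilpotent_of_fpf K (y := y) (r := 7) (by norm_num) (by rw [← hy, pow_orderOf_eq_one]) ?_
    intro m hm hc
    by_contra hne
    have h1 : orderOf m ≠ 1 := by rwa [Ne, orderOf_eq_one_iff]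
    obtain ⟨t, ht, htm⟩ := Nat.exists_prime_and_dvd h1
    have htK : t ∣ Nat.card K := htm.trans (dvd_of_coe rfl hm)
    obtain ⟨j, hj⟩ := exists_orderOf_of_dvd htm
    have hcm : Commute y m := hc
    exact not_commute h7' ht (by rintro rfl; exact h7 htK) hy hj (hcm.pow_right j)
  have h3K := not_three K hso hxo hxs h9 h7'
  obtain ⟨z, hz⟩ := h15
  have hz3 : orderOf (z ^ 3) = 5 := by
    rw [orderOf_pow_of_dvd (by norm_num) (by rw [hz]; norm_num), hz]
  have hz5 : orderOf (z ^ 5) = 3 := by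
    rw [orderOf_pow_of_dvd (by norm_num) (by rw [hz]; norm_num), hz]
  have hz3K : z ^ 3 ∉ K := fun hcon => h5K (dvd_of_coe hz3 hcon)
  have hz5K : z ^ 5 ∉ K := fun hcon => h3K (dvd_of_coe hz5 hcon)
  have hz15 : z ^ 15 = 1 := by rw [← hz, pow_orderOf_eq_one]
  set zb : G ⧸ K := QuotientGroup.mk' K z with hzb
  have hzb15 : zb ^ 15 = 1 := by rw [hzb, ← map_pow, hz15, map_one]
  have hzb3 : zb ^ 3 ≠ 1 := by
    intro h1
    rw [hzb, ← map_pow] at h1
    exact hz3K ((QuotientGroup.eq_one_iff _).1 h1)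
  have hzb5 : zb ^ 5 ≠ 1 := by
    intro h1
    rw [hzb, ← map_pow] at h1
    exact hz5K ((QuotientGroup.eq_one_iff _).1 h1)
  have hzbo : orderOf zb = 15 := by
    have h1 : orderOf zb ∣ 15 := orderOf_dvd_of_pow_eq_one hzb15
    have h2 : ¬ orderOf zb ∣ 3 := fun h => hzb3 (orderOf_dvd_iff_pow_eq_one.1 h)
    have h3 : ¬ orderOf zb ∣ 5 := fun h => hzb5 (orderOf_dvd_iff_pow_eq_one.1 h)
    have h4 : orderOf zb ≤ 15 := Nat.le_of_dvd (by norm_num) h1
    have h6 : 0 < orderOf zb := orderOf_pos zb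
    generalize orderOf zb = m at *
    interval_cases m <;> first | rfl | (exfalso; revert h1 h2 h3; decide)
  -- the five-part lies in `S`
  have hzS3 : zb ^ 3 ∈ S := by
    by_contra hcon
    apply h5S
    have h4 : orderOf (QuotientGroup.mk' S (zb ^ 3)) = 5 := by
      refine orderOf_eq_prime ?_ ?_
      · rw [← map_pow, ← pow_mul, hzb15, map_one]
      · intro h
        exact hcon ((QuotientGroup.eq_one_iff _).1 h)
    have h5 : orderOf (QuotientGroup.mk' S (zb ^ 3)) ∣ Nat.card ((G ⧸ K) ⧸ S) := orderOf_dvd_natCard _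
    rw [h4] at h5
    exact h5
  have hzS5 : zb ^ 5 ∉ S := by
    intro hcon
    have h1 : zb ∈ S := by
      have h2 : zb = (zb ^ 3) ^ 2 * (zb ^ 5)⁻¹ := by group
      rw [h2]
      exact mul_mem (pow_mem hzS3 2) (inv_mem hcon)
    refine orders_seven (e ⟨zb, h1⟩) ?_
    rw [MulEquiv.orderOf_eq, Subgroup.orderOf_mk, hzbo]
  have hcS : ¬ 49 ∣ Nat.card S := by
    have h1 : Nat.card S = Nat.card (alternatingGroup (Fin 7)) := Nat.card_congr e.toEquiv
    have h2 := two_mul_nat_card_alternatingGroup (α := Fin 7)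
    rw [Nat.card_perm, Nat.card_fin] at h2
    rw [h1]
    have h3 : Nat.factorial 7 = 5040 := by decide
    rw [h3] at h2
    intro h4
    omega
  exact outer_three S hsS hxS hso hxo hxs hcS (by rw [← pow_mul, hzb15]) hzS5 (seven_quot K h7')

/-! ### The theorem -/

abbrev L8 : List ℕ := [1, 2, 3, 4, 5, 6, 7, 15]

/-- **Groups with the element orders of `A₈`.** -/
theorem main (h : ∀ n, (∃ g : G, orderOf g = n) ↔ n ∈ L8) :
    ∃ (K : Subgroup G) (_ : K.Normal), Group.IsSolvable ↥K ∧ ∃ S : Subgroup (G ⧸ K), S.Normal ∧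
      Subgroup.centralizer (S : Set (G ⧸ K)) = ⊥ ∧ Nonempty (↥S ≃* alternatingGroup (Fin 8)) := by
  have hpr : ∀ p : ℕ, p.Prime → p ∣ Nat.card G → p ∈ ({2, 3, 5, 7} : Finset ℕ) := by
    intro p hp hd
    have := Fact.mk hp
    obtain ⟨g, hg⟩ := exists_prime_orderOf_dvd_card' p hd
    have h1 := (h p).1 ⟨g, hg⟩
    simp only [List.mem_cons, List.not_mem_nil, or_false] at h1
    rcases h1 with rfl | rfl | rfl | rfl | rfl | rfl | rfl | rfl <;> first | decide | (exfalso; revert hp; norm_num)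
  have hdv : ∀ p : ℕ, p ∈ L8 → p ∣ Nat.card G := by
    intro p hp
    obtain ⟨g, rfl⟩ := (h p).2 hp
    exact orderOf_dvd_natCard g
  have hρ : Coc G {2, 5, 7} := by
    constructor
    · intro r hr
      simp only [Finset.mem_insert, Finset.mem_singleton] at hr
      rcases hr with rfl | rfl | rfl
      · exact ⟨by norm_num, hdv 2 (by decide)⟩
      · exact ⟨by norm_num, hdv 5 (by decide)⟩
      · exact ⟨by norm_num, hdv 7 (by decide)⟩
    · intro r hr s hs hrs
      rw [h]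
      simp only [Finset.mem_insert, Finset.mem_singleton] at hr hs
      rcases hr with rfl | rfl | rfl <;> rcases hs with rfl | rfl | rfl <;>
        first | exact absurd rfl hrs | decide
  have hρ3 : 3 ≤ ({2, 5, 7} : Finset ℕ).card := by decide
  have hG : ¬ Group.IsSolvable G := by
    have h1 : Group.IsSolvable ↥(⊥ : Subgroup G) := inferInstance
    exact (Cfsg.Agent.S3633.result ({2, 5, 7} : Finset ℕ) hρ3 hρ ⊥ h1).2
  obtain ⟨K, hKn, hKs, hKmax⟩ := Cfsg.Agent.H414.Spec.exists_radical G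
  have h5K : ¬ 5 ∣ Nat.card ↥K := not_dvd_rad K hKs hG hKmax hρ hρ3 (by decide) (p := 5) (by decide) (by decide)
  have h7K : ¬ 7 ∣ Nat.card ↥K := not_dvd_rad K hKs hG hKmax hρ hρ3 (by decide) (p := 7) (by decide) (by decide)
  have hnt := nontrivial_quot hG K hKs
  have hcard : Nat.card G = Nat.card (G ⧸ K) * Nat.card ↥K := Subgroup.card_eq_card_quotient_mul_card_subgroup K
  have hq : ∀ n : ℕ, (∃ g : G ⧸ K, orderOf g = n) → n ∈ L8 := fun n hn =>
    (h n).1 (H164.NoPsl34.lift_orderOf K hn)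
  have hmem : ∀ p ∈ ({5, 7} : Finset ℕ), p.Prime ∧ p ≠ 2 ∧ p ∣ Nat.card (G ⧸ K) ∧ ¬ ∃ x : G ⧸ K, orderOf x = 2 * p := by
    intro p hp
    simp only [Finset.mem_insert, Finset.mem_singleton] at hp
    rcases hp with rfl | rfl
    · refine ⟨by norm_num, by decide, ?_, fun hx => absurd (hq _ hx) (by decide)⟩
      have h1 := hdv 5 (by decide)
      rw [hcard] at h1
      exact ((by norm_num : Nat.Prime 5).dvd_mul.1 h1).resolve_right h5K
    · refine ⟨by norm_num, by decide, ?_, fun hx => absurd (hq _ hx) (by decide)⟩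
      have h1 := hdv 7 (by decide)
      rw [hcard] at h1
      exact ((by norm_num : Nat.Prime 7).dvd_mul.1 h1).resolve_right h7K
  obtain ⟨a1, a2, a3, a4⟩ := hmem 7 (by decide)
  obtain ⟨b1, b2, b3, b4⟩ := hmem 5 (by decide)
  obtain ⟨S, hS, hSn, h7S, h7i, hSc⟩ := structure_of_dvd (quot_radical K hKs hKmax) good_comp a1 a2 a3 a4
  obtain ⟨T, hT, hTn, h5T, h5i, hTc⟩ := structure_of_dvd (quot_radical K hKs hKmax) good_comp b1 b2 b3 b4
  have hTS : T = S := eq_of_normal hS hT hSn hTn hSc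
  subst hTS
  have hsimple := hT.simple
  have hna : ¬ IsMulCommutative ↥T := by
    rintro ⟨⟨hc⟩⟩
    obtain ⟨a, b, hab⟩ := hT.noncomm
    exact hab (hc a b)
  have hTG : Nat.card ↥T ∣ Nat.card G := (Subgroup.card_subgroup_dvd_card T).trans
    (Subgroup.card_quotient_dvd_card K)
  have hsub : (Nat.card ↥T).primeFactors ⊆ {2, 3, 5, 7} := by
    intro p hp
    exact hpr p (Nat.prime_of_mem_primeFactors hp) ((Nat.dvd_of_mem_primeFactors hp).trans hTG)
  have h3T := three_dvd hna hsub h7S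
  have heq : (Nat.card ↥T).primeFactors = {2, 3, 5, 7} := by
    apply Finset.Subset.antisymm hsub
    intro p hp
    have hc0 : Nat.card ↥T ≠ 0 := Nat.card_pos.ne'
    simp only [Finset.mem_insert, Finset.mem_singleton] at hp
    rcases hp with rfl | rfl | rfl | rfl
    · exact Nat.mem_primeFactors.2 ⟨by norm_num, hT.two_dvd, hc0⟩
    · exact Nat.mem_primeFactors.2 ⟨by norm_num, h3T, hc0⟩
    · exact Nat.mem_primeFactors.2 ⟨by norm_num, h5T, hc0⟩
    · exact Nat.mem_primeFactors.2 ⟨by norm_num, h7S, hc0⟩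
  have hlift : ∀ {X : Type} [Group X], (↥T ≃* X) → ∀ n : ℕ, (∃ x : X, orderOf x = n) → n ∈ L8 := by
    intro X _ e n hn
    obtain ⟨x, hx⟩ := hn
    refine hq n ⟨(e.symm x : ↥T), ?_⟩
    rw [Subgroup.orderOf_coe, MulEquiv.orderOf_eq, hx]
  have h9 : ¬ ∃ g : G, orderOf g = 9 := by rw [h]; decide
  have h7' : ∀ g : G, 7 ∣ orderOf g → orderOf g = 7 := by
    intro g hg
    have h1 := (h (orderOf g)).1 ⟨g, rfl⟩
    generalize orderOf g = m at *
    simp only [List.mem_cons, List.not_mem_nil, or_false] at h1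
    rcases h1 with rfl | rfl | rfl | rfl | rfl | rfl | rfl | rfl <;> first | rfl | (exfalso; revert hg; decide)
  have h15 : ∃ g : G, orderOf g = 15 := (h 15).2 (by decide)
  refine ⟨K, hKn, hKs, T, hTn, hTc, ?_⟩
  rcases Cfsg.Agent.S3720.result hna heq with ⟨⟨e⟩⟩ | ⟨⟨e⟩⟩ | ⟨⟨e⟩⟩ | ⟨⟨e⟩⟩ | ⟨e⟩ | ⟨F, _, _, hF, ⟨e⟩⟩ | ⟨F, _, _, hF, ⟨e⟩⟩ |
    ⟨F, _, _, hF, ⟨e⟩⟩ | ⟨F, _, _, hF, ⟨e⟩⟩ | ⟨F, _, _, hF, ⟨e⟩⟩ | ⟨F, _, _, hF, ⟨e⟩⟩ | ⟨F, _, _, hF, ⟨e⟩⟩
  · exact (no_alt7 K hKs T e h7K h5K h5i h9 h7' h15).elim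
  · exact ⟨e⟩
  · exact absurd (hlift e 9 (exists_nine le_rfl)) (by decide)
  · exact absurd (hlift e 9 (exists_nine (by norm_num))) (by decide)
  · obtain ⟨e'⟩ := e
    exact absurd (hlift e' 10 (H379.J2Spec.exists_order H379.J2Spec.o10)) (by decide)
  · have : Fact (Nat.Prime 7) := ⟨by norm_num⟩
    have : CharP F 7 := by
      obtain ⟨p, hp⟩ := CharP.exists F
      obtain ⟨k, hk1, hk2⟩ := FiniteField.card F p
      have h1 : p ∣ 7 ^ 2 := by
        rw [show (7 : ℕ) ^ 2 = 49 by norm_num, ← hF, hk2]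
        exact dvd_pow_self p k.ne_zero
      have h2 := (Nat.prime_dvd_prime_iff_eq hk1 (by norm_num)).1 (hk1.dvd_of_dvd_pow h1)
      rwa [h2] at hp
    have h1 : 25 ∈ Set.range (orderOf : Matrix.ProjectiveSpecialLinearGroup (Fin 2) F → ℕ) := by
      rw [S2475.result (F := F) 7 (by rw [hF]; norm_num), hF]
      exact Or.inr (Or.inr (by decide))
    exact absurd (hlift e 25 h1) (by decide)
  · exact (H164.NoPsl34.no_psl34 K hKs T hTc hF e h7K (fun h1 => by
      rcases (by norm_num : Nat.Prime 5).dvd_mul.1 h1 with h2 | h2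
      · exact h5K h2
      · exact h5i h2) h9 h7' h15).elim
  · have h1 : ∃ g : PSp 2 F, orderOf g = 14 :=
      H164.ExplElt.transport (LieClassical.FieldTransfer.pspCongr 2 (ZMod.ringEquivOfPrime F (by norm_num) hF))
        H422.Elim.psp_two_seven
    exact absurd (hlift e 14 h1) (by decide)
  · exact absurd (hlift e 9 (H164.ExplElt.psp_six hF)) (by decide)
  · exact absurd (hlift e 9 (H164.ExplElt.oplus_nine hF)) (by decide)
  · have : Fact (Nat.Prime 5) := ⟨by norm_num⟩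
    have : CharP F 5 := by
      obtain ⟨p, hp⟩ := CharP.exists F
      obtain ⟨k, hk1, hk2⟩ := FiniteField.card F p
      have h1 : p ∣ 5 ^ 2 := by
        rw [show (5 : ℕ) ^ 2 = 25 by norm_num, ← hF, hk2]
        exact dvd_pow_self p k.ne_zero
      have h2 := (Nat.prime_dvd_prime_iff_eq hk1 (by norm_num)).1 (hk1.dvd_of_dvd_pow h1)
      rwa [h2] at hp
    have h1 : 10 ∈ Set.range (orderOf : Cfsg.PSU 3 F 5 → ℕ) := by
      rw [S2366.result (F := F) 5 (by norm_num) 5 (by rw [hF]; norm_num)]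
      exact Or.inl (Or.inl (Or.inr (by decide)))
    exact absurd (hlift e 10 h1) (by decide)
  · exact absurd (hlift e 12 (H366.UFourThree.exists_twelve hF)) (by decide)

/-- **Task 662.** -/
theorem psl_four_two {F : Type*} [Field F] [Fintype F] (hF : Fintype.card F = 2)
    (h : Set.range (orderOf : G → ℕ) = Set.range (orderOf : Matrix.ProjectiveSpecialLinearGroup (Fin 4) F → ℕ)) :
    ∃ (K : Subgroup G) (_ : K.Normal), Group.IsSolvable ↥K ∧ ∃ S : Subgroup (G ⧸ K), S.Normal ∧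
      Subgroup.centralizer (S : Set (G ⧸ K)) = ⊥ ∧ Nonempty (↥S ≃* Matrix.ProjectiveSpecialLinearGroup (Fin 4) F) := by
  obtain ⟨e⟩ := S0256.result hF
  obtain ⟨K, hK, hKs, S, hS, hSc, ⟨f⟩⟩ := main (G := G) (by
    intro n
    have h1 : (∃ g : G, orderOf g = n) ↔ n ∈ Set.range (orderOf : G → ℕ) := Iff.rfl
    rw [h1, h]
    constructor
    · rintro ⟨x, rfl⟩
      have h2 := orders_eight (e x)
      rwa [MulEquiv.orderOf_eq] at h2
    · intro hn
      obtain ⟨g, hg⟩ := exists_eight hn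
      exact ⟨e.symm g, by rw [MulEquiv.orderOf_eq, hg]⟩)
  exact ⟨K, hK, hKs, S, hS, hSc, ⟨f.trans e.symm⟩⟩

end Cfsg.Agent.H945.LFour
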