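import Cfsg.Agent.H945.Weight

/-!
# Existence of weights (Curtis–Richen), helper945

The left translation representation `lft` of `Y` on the functions `Y → k`; for `χ : T →* kˣ` trivial on
`T ∩ ⟨X x : x ∈ RootsJ J⟩` the function supported on `P_J g₀ U` is a weight vector `fJ`.
-/

set_option autoImplicit false
set_option linter.unusedSectionVars false

namespace Cfsg.Agent.H945

open CoxeterSystem Cfsg.Agent.ChevalleyStructure.CoxeterGeom Cfsg.Agent.Tits.Roots Cfsg.Agent.Tits.Core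
  Cfsg.Agent.Tits.Exchange Cfsg.Agent.Nodes.Reps Cfsg.Agent.Nodes.BNOf Cfsg.Agent.Nodes.StabComb
  Cfsg.Agent.Nodes.Bruhat Cfsg.Agent.Nodes.OppDec Cfsg.Agent.Nodes.LeviDec Cfsg.Agent.KFacts.RgdOpp
open Cfsg.Agent.Omega.CR

/-- left translation -/
def lft (Y k : Type*) [Group Y] [Field k] : Y →* Module.End k (Y → k) where
  toFun g := { toFun := fun f x => f (g⁻¹ * x), map_add' := fun _ _ => rfl, map_smul' := fun _ _ => rfl }
  map_one' := by
    ext f x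
    change f (1⁻¹ * x) = f x
    rw [inv_one, one_mul]
  map_mul' a b := by
    refine LinearMap.ext fun f => funext fun x => ?_
    change f ((a * b)⁻¹ * x) = f (b⁻¹ * (a⁻¹ * x))
    rw [mul_inv_rev, mul_assoc]

theorem lft_apply {Y k : Type*} [Group Y] [Field k] (g : Y) (f : Y → k) (x : Y) : lft Y k g f x = f (g⁻¹ * x) := rfl

section

variable {I W Y : Type*} [Fintype I] [DecidableEq I] [Group W] [Group Y] {M : CoxeterMatrix I}
  {cs : CoxeterSystem M W} {A : I → I → ℤ} {h : IsCartan M A} {p : ℕ} {T : Subgroup Y} {n : I → Y}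
  {X : (I → ℤ) → Subgroup Y}

/-- the Levi subgroup without torus -/
def DJ (cs : CoxeterSystem M W) (h : IsCartan M A) (X : (I → ℤ) → Subgroup Y) (J : Set I) : Subgroup Y :=
  RGD.Sup X (RootsJ cs h J)

/-- the parabolic subgroup without torus -/
def OJ (cs : CoxeterSystem M W) (h : IsCartan M A) (X : (I → ℤ) → Subgroup Y) (J : Set I) : Subgroup Y :=
  DJ cs h X J ⊔ VJ cs h X J

variable (R : RGD cs h p T n X) {J : Set I}

theorem DJ_le_LJ : DJ cs h X J ≤ LJ cs h T X J := le_sup_right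

theorem OJ_le_PJ : OJ cs h X J ≤ PJ cs h T X J :=
  sup_le (DJ_le_LJ.trans LJ_le_PJ) VJ_le_PJ

theorem U_le_OJ (J : Set I) : RGD.Sup X (RGD.Pos cs h) ≤ OJ cs h X J := by
  refine RGD.Sup_le fun x hx => ?_
  rcases mem_PosJ_or_NotJ J hx.1 hx.2 with h1 | h1
  · exact (RGD.le_Sup (S := RootsJ cs h J) (PosJ_subset J h1)).trans le_sup_left
  · exact (RGD.le_Sup (S := NotJ cs h J) h1).trans le_sup_right

include R

theorem T_norm_OJ : T ≤ Subgroup.normalizer (OJ cs h X J : Set Y) := by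
  have h1 : T ≤ Subgroup.normalizer (DJ cs h X J : Set Y) := R.T_le_normalizer fun _ hx => hx.1
  have h2 : T ≤ Subgroup.normalizer (VJ cs h X J : Set Y) := R.T_le_normalizer fun _ hx => hx.1
  intro t ht
  rw [mem_normalizer_iff_cj]
  unfold OJ
  rw [cj_sup, mem_normalizer_iff_cj.1 (h1 ht), mem_normalizer_iff_cj.1 (h2 ht)]

theorem T_conj_OJ {t o : Y} (ht : t ∈ T) (ho : o ∈ OJ cs h X J) : t * o * t⁻¹ ∈ OJ cs h X J :=
  (Subgroup.mem_normalizer_iff.1 (T_norm_OJ R ht) o).1 ho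

theorem mem_OJ {o : Y} : o ∈ OJ cs h X J ↔ ∃ d ∈ DJ cs h X J, ∃ v ∈ VJ cs h X J, o = d * v := by
  constructor
  · intro ho
    have h1 : DJ cs h X J ≤ Subgroup.normalizer (VJ cs h X J : Set Y) :=
      (DJ_le_LJ (T := T)).trans (LJ_le_normalizer_VJ R J)
    have h2 : o ∈ ((DJ cs h X J ⊔ VJ cs h X J : Subgroup Y) : Set Y) := ho
    rw [Subgroup.coe_mul_of_left_le_normalizer_right _ _ h1] at h2
    obtain ⟨d, hd, v, hv, rfl⟩ := h2
    exact ⟨d, hd, v, hv, rfl⟩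
  · rintro ⟨d, hd, v, hv, rfl⟩
    exact mul_mem (Subgroup.mem_sup_left hd) (Subgroup.mem_sup_right hv)

/-- `T ∩ OJ ≤ T ∩ DJ` -/
theorem T_inf_OJ [Finite W] {t : Y} (ht : t ∈ T) (ho : t ∈ OJ cs h X J) : t ∈ DJ cs h X J := by
  obtain ⟨d, hd, v, hv, e⟩ := (mem_OJ R).1 ho
  have h1 : v = d⁻¹ * t := by rw [e]; group
  have h2 : v ∈ LJ cs h T X J := by
    rw [h1]
    exact mul_mem (inv_mem (DJ_le_LJ hd)) (T_le_LJ ht)
  rw [e, eq_one_of_mem_LJ_of_mem_VJ R h2 hv, mul_one]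
  exact hd

theorem mem_PJ_iff_T_OJ {g : Y} : g ∈ PJ cs h T X J ↔ ∃ t ∈ T, ∃ o ∈ OJ cs h X J, g = t * o := by
  constructor
  · intro hg
    have e : PJ cs h T X J = T ⊔ OJ cs h X J := by
      unfold PJ OJ LJ DJ
      rw [sup_assoc]
    rw [e] at hg
    have h2 : g ∈ ((T ⊔ OJ cs h X J : Subgroup Y) : Set Y) := hg
    rw [Subgroup.coe_mul_of_left_le_normalizer_right _ _ (T_norm_OJ R)] at h2
    obtain ⟨t, ht, o, ho, rfl⟩ := h2
    exact ⟨t, ht, o, ho, rfl⟩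
  · rintro ⟨t, ht, o, ho, rfl⟩
    exact mul_mem (LJ_le_PJ (T_le_LJ ht)) (OJ_le_PJ ho)

/-! ### the cells of `P_J g₀ U` -/

/-- the cells over `W_J w₀` -/
def Zc (R : RGD cs h p T n X) [Finite W] (J : Set I) (x : Y) : Prop :=
  ∃ w, w * w0 cs ∈ WJ cs J ∧ Cell R.nsys cs h X w x

theorem Zc.mul_left [Finite W] {x b : Y} (hx : Zc R J x) (hb : b ∈ RGD.B cs h T X) : Zc R J (b * x) := by
  obtain ⟨w, hw, hc⟩ := hx
  exact ⟨w, hw, hc.mul_left hb⟩

theorem Zc.mul_right [Finite W] {x b : Y} (hx : Zc R J x) (hb : b ∈ RGD.B cs h T X) : Zc R J (x * b) := by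
  obtain ⟨w, hw, hc⟩ := hx
  exact ⟨w, hw, hc.mul_right hb⟩

theorem Zc.word [Finite W] (ω : List I) (hω : ∀ i ∈ ω, i ∈ J) : ∀ {g x : Y}, Rp cs R.nsys (cs.wordProd ω) g →
    Zc R J x → Zc R J (g * x) := by
  induction ω with
  | nil =>
    intro g x hg hx
    rw [wordProd_nil] at hg
    exact hx.mul_left R (RGD.T_le_B hg.mem_of_one)
  | cons i ω ih =>
    intro g x hg hx
    rw [wordProd_cons] at hg
    have hg' : Rp cs R.nsys (cs.wordProd ω) ((n i)⁻¹ * g) := by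
      have := (rp_simple cs R.nsys i).inv.mul hg
      rwa [cs.inv_simple, ← mul_assoc, cs.simple_mul_simple_self, one_mul] at this
    obtain ⟨w, hw, hc⟩ := ih (fun j hj => hω j (List.mem_cons_of_mem _ hj)) hg' hx
    have e : g * x = n i * ((n i)⁻¹ * g * x) := by group
    rw [e]
    have hi : cs.simple i ∈ WJ cs J := Subgroup.subset_closure ⟨i, hω i (List.mem_cons_self), rfl⟩
    rcases Cell.simple_mul R (cell_of_rp (rp_simple cs R.nsys i)) hc with h1 | h1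
    · refine ⟨_, ?_, h1⟩
      rw [mul_assoc]
      exact mul_mem hi hw
    · exact ⟨w, hw, h1.2⟩

theorem Zc.PJ [Finite W] {g x : Y} (hg : g ∈ PJ cs h T X J) (hx : Zc R J x) : Zc R J (g * x) := by
  obtain ⟨v, hv, b₁, hb₁, g', hg', b₂, hb₂, rfl⟩ := (mem_PJ_iff_cell R).1 hg
  obtain ⟨ω, hω, rfl⟩ := exists_word_of_mem_WJ cs hv
  rw [mul_assoc, mul_assoc]
  exact (Zc.word R ω hω hg' (hx.mul_left R hb₂)).mul_left R hb₁

/-- elements over `w` in a cell over `W_J w₀` -/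
theorem Zc.nonpos [Finite W] {g : Y} (hg : Zc R J g) {w : W} (hw : Rp cs R.nsys w g) {i : I} (hi : i ∉ J) :
    rep cs h w⁻¹ (sr i) ≤ 0 := by
  obtain ⟨v, hv, hc⟩ := hg
  have e : v = w := Cell.unique R hc (cell_of_rp hw)
  subst e
  have e1 : v⁻¹ = (w0 cs) * (v * w0 cs)⁻¹ := by group
  rw [e1, rep_mul_apply]
  have h1 : (sr i : I → ℤ) ∈ NotJ cs h J := sr_mem_NotJ hi
  have h2 := NotJ.act (inv_mem hv) h1
  exact rep_w0_nonpos h2.1 h2.2.1

/-! ### the function -/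

theorem pow_T_OJ {s o : Y} (hs : s ∈ T) (ho : o ∈ OJ cs h X J) (N : ℕ) :
    ∃ o' ∈ OJ cs h X J, (s * o) ^ N = s ^ N * o' := by
  induction N with
  | zero => exact ⟨1, one_mem _, by group⟩
  | succ N ih =>
    obtain ⟨o', ho', e⟩ := ih
    refine ⟨s⁻¹ * o' * s * o, mul_mem ?_ ho, ?_⟩
    · have := T_conj_OJ R (inv_mem hs) ho'
      rwa [inv_inv] at this
    · rw [pow_succ, e, pow_succ]; group

variable [Finite W] [Finite Y] [Fact p.Prime] {k : Type*} [Field k] [CharP k p] {χ : T →* kˣ}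

omit R [Finite Y] in
theorem units_eq_one {c : kˣ} {a : ℕ} (hc : c ^ p ^ a = 1) : c = 1 := by
  have h1 : (c : k) ^ (p ^ a * 1) = 1 := by
    rw [mul_one, ← Units.val_pow_eq_pow_val, hc, Units.val_one]
  have : ExpChar k p := ExpChar.prime (Fact.out : p.Prime)
  rw [ExpChar.pow_prime_pow_mul_eq_one_iff, pow_one] at h1
  exact Units.ext h1

theorem chi_eq (hχ : ∀ t : T, (t : Y) ∈ DJ cs h X J → χ t = 1) {g₀ : Y} {t t' : T} {o o' u u' : Y}
    (ho : o ∈ OJ cs h X J) (ho' : o' ∈ OJ cs h X J) (hu : u ∈ RGD.Sup X (RGD.Pos cs h))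
    (hu' : u' ∈ RGD.Sup X (RGD.Pos cs h)) (e : t * o * g₀ * u = t' * o' * g₀ * u') : χ t = χ t' := by
  obtain ⟨a, ha⟩ := R.isPGroup_Upos ⟨u' * u⁻¹, mul_mem hu' (inv_mem hu)⟩
  have ha' : (u' * u⁻¹) ^ p ^ a = 1 := congrArg Subtype.val ha
  set s : T := t'⁻¹ * t with hs
  set o'' : Y := ((s : Y)⁻¹ * o'⁻¹ * s) * o with ho2
  have ho'' : o'' ∈ OJ cs h X J := by
    refine mul_mem ?_ ho
    have := T_conj_OJ R (inv_mem s.2) (inv_mem ho')
    rwa [inv_inv] at this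
  have e1 : (s : Y) * o'' = g₀ * (u' * u⁻¹) * g₀⁻¹ := by
    have e2 : (s : Y) * o'' = o'⁻¹ * (t' : Y)⁻¹ * (t * o) := by
      rw [ho2, hs, Subgroup.coe_mul, Subgroup.coe_inv]; group
    have e3 : (t : Y) * o = t' * o' * g₀ * u' * u⁻¹ * g₀⁻¹ := by
      rw [← e]; group
    rw [e2, e3]; group
  have e4 : ((s : Y) * o'') ^ p ^ a = 1 := by
    rw [e1, conj_pow, ha', mul_one, mul_inv_cancel]
  obtain ⟨o₃, ho₃, e5⟩ := pow_T_OJ R s.2 ho'' (p ^ a)
  rw [e4] at e5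
  have e6 : ((s ^ p ^ a : T) : Y) ∈ OJ cs h X J := by
    have : ((s ^ p ^ a : T) : Y) = o₃⁻¹ := by
      rw [Subgroup.coe_pow]
      exact eq_inv_of_mul_eq_one_left e5.symm
    rw [this]
    exact inv_mem ho₃
  have e7 := hχ _ (T_inf_OJ R (s ^ p ^ a).2 e6)
  rw [map_pow] at e7
  have e8 := units_eq_one (p := p) e7
  rw [hs, map_mul, map_inv] at e8
  exact (inv_mul_eq_one.1 e8).symm

omit R [Finite W] [Finite Y] [Fact p.Prime] [CharP k p] in
open Classical in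
/-- the function supported on `P_J g₀ U` -/
noncomputable def fJ (cs : CoxeterSystem M W) (h : IsCartan M A) (X : (I → ℤ) → Subgroup Y) (J : Set I) (g₀ : Y)
    (χ : T →* kˣ) : Y → k := fun x =>
  if hx : ∃ t : T, ∃ o ∈ OJ cs h X J, ∃ u ∈ RGD.Sup X (RGD.Pos cs h), x = t * o * g₀ * u then
    (((χ hx.choose)⁻¹ : kˣ) : k) else 0

theorem fJ_apply (hχ : ∀ t : T, (t : Y) ∈ DJ cs h X J → χ t = 1) {g₀ : Y} {t : T} {o u : Y}
    (ho : o ∈ OJ cs h X J) (hu : u ∈ RGD.Sup X (RGD.Pos cs h)) :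
    fJ cs h X J g₀ χ (t * o * g₀ * u) = (((χ t)⁻¹ : kˣ) : k) := by
  have hx : ∃ t' : T, ∃ o' ∈ OJ cs h X J, ∃ u' ∈ RGD.Sup X (RGD.Pos cs h),
      t * o * g₀ * u = t' * o' * g₀ * u' := ⟨t, o, ho, u, hu, rfl⟩
  rw [fJ, dif_pos hx]
  obtain ⟨o', ho', u', hu', e⟩ := hx.choose_spec
  rw [chi_eq R hχ ho ho' hu hu' e]

omit R [Finite W] [Finite Y] [Fact p.Prime] [CharP k p] in
theorem fJ_zero {g₀ x : Y} (hx : ¬ ∃ t : T, ∃ o ∈ OJ cs h X J, ∃ u ∈ RGD.Sup X (RGD.Pos cs h),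
    x = t * o * g₀ * u) : fJ cs h X J g₀ χ x = 0 := by
  rw [fJ, dif_neg hx]

/-- left invariance -/
theorem fJ_left (hχ : ∀ t : T, (t : Y) ∈ DJ cs h X J → χ t = 1) {g₀ x o : Y} (ho : o ∈ OJ cs h X J) :
    fJ cs h X J g₀ χ (o * x) = fJ cs h X J g₀ χ x := by
  by_cases hx : ∃ t : T, ∃ o ∈ OJ cs h X J, ∃ u ∈ RGD.Sup X (RGD.Pos cs h), x = t * o * g₀ * u
  · obtain ⟨t, o', ho', u, hu, rfl⟩ := hx
    have h1 : (t : Y)⁻¹ * o * t ∈ OJ cs h X J := by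
      have := T_conj_OJ R (inv_mem t.2) ho
      rwa [inv_inv] at this
    have e : o * (t * o' * g₀ * u) = t * (((t : Y)⁻¹ * o * t) * o') * g₀ * u := by group
    rw [e, fJ_apply R hχ (mul_mem h1 ho') hu, fJ_apply R hχ ho' hu]
  · rw [fJ_zero hx, fJ_zero]
    rintro ⟨t, o', ho', u, hu, e⟩
    apply hx
    have h1 : (t : Y)⁻¹ * o⁻¹ * t ∈ OJ cs h X J := by
      have := T_conj_OJ R (inv_mem t.2) (inv_mem ho)
      rwa [inv_inv] at this
    refine ⟨t, _, mul_mem h1 ho', u, hu, ?_⟩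
    have e1 : x = o⁻¹ * (o * x) := by group
    rw [e1, e]; group

theorem fJ_T (hχ : ∀ t : T, (t : Y) ∈ DJ cs h X J → χ t = 1) {g₀ x : Y} (s : T) :
    fJ cs h X J g₀ χ (s * x) = (((χ s)⁻¹ : kˣ) : k) * fJ cs h X J g₀ χ x := by
  by_cases hx : ∃ t : T, ∃ o ∈ OJ cs h X J, ∃ u ∈ RGD.Sup X (RGD.Pos cs h), x = t * o * g₀ * u
  · obtain ⟨t, o', ho', u, hu, rfl⟩ := hx
    have e : (s : Y) * (t * o' * g₀ * u) = ((s * t : T) : Y) * o' * g₀ * u := by
      rw [Subgroup.coe_mul]; group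
    rw [e, fJ_apply R hχ ho' hu, fJ_apply R hχ ho' hu, map_mul, mul_inv_rev, mul_comm, Units.val_mul]
  · rw [fJ_zero hx, fJ_zero, mul_zero]
    rintro ⟨t, o', ho', u, hu, e⟩
    apply hx
    refine ⟨s⁻¹ * t, o', ho', u, hu, ?_⟩
    have e1 : x = (s : Y)⁻¹ * (s * x) := by group
    rw [e1, e, Subgroup.coe_mul, Subgroup.coe_inv]; group

omit R [Finite W] [Finite Y] [Fact p.Prime] [CharP k p] in
theorem mem_Z_mul {g₀ x v : Y} (hv : v ∈ RGD.Sup X (RGD.Pos cs h)) :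
    (∃ t : T, ∃ o ∈ OJ cs h X J, ∃ u ∈ RGD.Sup X (RGD.Pos cs h), x * v = t * o * g₀ * u) ↔
      ∃ t : T, ∃ o ∈ OJ cs h X J, ∃ u ∈ RGD.Sup X (RGD.Pos cs h), x = t * o * g₀ * u := by
  constructor
  · rintro ⟨t, o, ho, u, hu, e⟩
    refine ⟨t, o, ho, u * v⁻¹, mul_mem hu (inv_mem hv), ?_⟩
    have e1 : x = (x * v) * v⁻¹ := by group
    rw [e1, e]; group
  · rintro ⟨t, o, ho, u, hu, rfl⟩
    exact ⟨t, o, ho, u * v, mul_mem hu hv, by group⟩

theorem fJ_right (hχ : ∀ t : T, (t : Y) ∈ DJ cs h X J → χ t = 1) {g₀ x v : Y}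
    (hv : v ∈ RGD.Sup X (RGD.Pos cs h)) : fJ cs h X J g₀ χ (x * v) = fJ cs h X J g₀ χ x := by
  by_cases hx : ∃ t : T, ∃ o ∈ OJ cs h X J, ∃ u ∈ RGD.Sup X (RGD.Pos cs h), x = t * o * g₀ * u
  · obtain ⟨t, o, ho, u, hu, rfl⟩ := hx
    have e : (t : Y) * o * g₀ * u * v = t * o * g₀ * (u * v) := by group
    rw [e, fJ_apply R hχ ho (mul_mem hu hv), fJ_apply R hχ ho hu]
  · rw [fJ_zero hx, fJ_zero]
    rwa [mem_Z_mul hv]

theorem Zc_of_mem {g₀ x : Y} (hg₀ : Rp cs R.nsys (w0 cs) g₀)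
    (hx : ∃ t : T, ∃ o ∈ OJ cs h X J, ∃ u ∈ RGD.Sup X (RGD.Pos cs h), x = t * o * g₀ * u) : Zc R J x := by
  obtain ⟨t, o, ho, u, hu, rfl⟩ := hx
  have h1 : Zc R J g₀ := ⟨w0 cs, by rw [w0_mul_self]; exact one_mem _, cell_of_rp hg₀⟩
  have h2 : (t : Y) * o ∈ PJ cs h T X J := mul_mem (LJ_le_PJ (T_le_LJ t.2)) (OJ_le_PJ ho)
  exact (Zc.PJ R h2 h1).mul_right R (RGD.U_le_B hu)

/-! ### the Hecke operators on the function -/

omit R [Finite W] [Fact p.Prime] [CharP k p] in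
theorem Ti_lft (i : I) [Fintype (X (sr i))] (f : Y → k) (x : Y) :
    Ti n X (lft Y k) i f x = ∑ v : X (sr i), f ((n i)⁻¹ * ((v : Y)⁻¹ * x)) := by
  rw [Ti_apply, sg_def, Finset.sum_apply]
  rfl

/-- `x = u₁ g u₂` -/
theorem exists_bruhat (hG : GG cs h T X = ⊤) (x : Y) : ∃ w, ∃ g, Rp cs R.nsys w g ∧
    ∃ u₁ ∈ RGD.Sup X (RGD.Pos cs h), ∃ u₂ ∈ RGD.Sup X (RGD.Pos cs h), x = u₁ * g * u₂ := by
  have hx : x ∈ LJ cs h T X Set.univ := by rw [LJ_univ, hG]; exact Subgroup.mem_top x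
  obtain ⟨w, -, hc⟩ := exists_cellJ R hx
  obtain ⟨b₁, hb₁, g, hg, b₂, hb₂, rfl⟩ := cellJ_univ.1 hc
  obtain ⟨t₁, ht₁, u₁, hu₁, e₁⟩ := R.mem_B.1 (inv_mem hb₁)
  obtain ⟨t₂, ht₂, u₂, hu₂, rfl⟩ := R.mem_B.1 hb₂
  refine ⟨w, t₁⁻¹ * g * t₂, ?_, u₁⁻¹, inv_mem hu₁, u₂, hu₂, ?_⟩
  · have h1 : Rp cs R.nsys 1 t₁⁻¹ := rp_of_mem (inv_mem ht₁)
    have h2 : Rp cs R.nsys 1 t₂ := rp_of_mem ht₂
    have := (h1.mul hg).mul h2
    rwa [one_mul, mul_one] at this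
  · have e2 : b₁ = u₁⁻¹ * t₁⁻¹ := by rw [← inv_inv b₁, e₁]; group
    rw [e2]; group

theorem fJ_Ti_of_mem (hχ : ∀ t : T, (t : Y) ∈ DJ cs h X J → χ t = 1) {g₀ : Y} {i : I}
    (hn : n i ∈ DJ cs h X J) : Ti n X (lft Y k) i (fJ cs h X J g₀ χ) = 0 := by
  classical
  let _ := Fintype.ofFinite (X (sr i))
  funext x
  rw [Ti_lft]
  have h1 : ∀ v : X (sr i), fJ cs h X J g₀ χ ((n i)⁻¹ * ((v : Y)⁻¹ * x)) = fJ (k := k) cs h X J g₀ χ x := by
    intro v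
    rw [fJ_left R hχ (Subgroup.mem_sup_left (inv_mem hn)), fJ_left R hχ]
    exact U_le_OJ J (RGD.le_Sup (S := RGD.Pos cs h) ⟨isRoot_sr cs h i, sr_nonneg i⟩ (inv_mem v.2))
  rw [Finset.sum_congr rfl fun v _ => h1 v, Finset.sum_const, Finset.card_univ, nsmul_eq_mul,
    ← Nat.card_eq_fintype_card, (CharP.cast_eq_zero_iff k p _).2 (p_dvd R i), zero_mul]
  rfl

theorem fJ_Ti_not_mem (hG : GG cs h T X = ⊤) (hχ : ∀ t : T, (t : Y) ∈ DJ cs h X J → χ t = 1) {g₀ : Y}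
    (hg₀ : Rp cs R.nsys (w0 cs) g₀) {i : I} (hi : i ∉ J) :
    ∃ c : k, Ti n X (lft Y k) i (fJ cs h X J g₀ χ) = c • fJ cs h X J g₀ χ ∧
      ((n i ∈ X (sr i) ⊔ X (-sr i)) → (∀ t : T, (t : Y) ∈ X (sr i) ⊔ X (-sr i) → χ t = 1) → c = -1) := by
  classical
  let _ := Fintype.ofFinite (X (sr i))
  have hU : ∀ {v : Y}, v ∈ X (sr i) → v ∈ RGD.Sup X (RGD.Pos cs h) := fun hv =>
    RGD.le_Sup (S := RGD.Pos cs h) ⟨isRoot_sr cs h i, sr_nonneg i⟩ hv
  have h0 : ∀ v : X (sr i), (v : Y) ≠ 1 → ∃ t : T, ∃ y ∈ X (-sr i), ∃ b ∈ X (sr i), (v : Y) * n i = y * t * b := by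
    intro v hv
    obtain ⟨y, hy, t, ht, b, hb, e⟩ := mul_n R i v.2 hv
    exact ⟨⟨t, ht⟩, y, hy, b, hb, e⟩
  choose! t ht using h0
  let c : X (sr i) → k := fun v => if (v : Y) = 1 then 0 else (χ (t v) : k)
  have key : ∀ w g, Rp cs R.nsys w g →
      Ti n X (lft Y k) i (fJ cs h X J g₀ χ) g = (∑ v, c v) * fJ cs h X J g₀ χ g := by
    intro w g hg
    rw [Ti_lft]
    have hroot := (isRoot_sr cs h i).act (h := h) w⁻¹
    rcases hroot.pos_or_neg with hpos | hneg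
    · -- the ascending case
      have h1 : fJ (k := k) cs h X J g₀ χ g = 0 := by
        apply fJ_zero
        intro h2
        exact hroot.not_pos_neg hpos (Zc.nonpos R (Zc_of_mem R hg₀ h2) hg hi)
      have h2 : ∀ v : X (sr i), fJ cs h X J g₀ χ ((n i)⁻¹ * ((v : Y)⁻¹ * g)) =
          fJ (k := k) cs h X J g₀ χ ((n i)⁻¹ * g) := by
        intro v
        have e : (n i)⁻¹ * ((v : Y)⁻¹ * g) = (n i)⁻¹ * g * (g⁻¹ * (v : Y)⁻¹ * g) := by group
        rw [e, fJ_right R hχ]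
        have := R.conj_mem' hg (isRoot_sr cs h i) (inv_mem v.2)
        exact RGD.le_Sup (S := RGD.Pos cs h) ⟨hroot, hpos⟩ this
      rw [h1, mul_zero, Finset.sum_congr rfl fun v _ => h2 v, Finset.sum_const, Finset.card_univ, nsmul_eq_mul,
        ← Nat.card_eq_fintype_card, (CharP.cast_eq_zero_iff k p _).2 (p_dvd R i), zero_mul]
    · rw [Finset.sum_mul]
      refine Finset.sum_congr rfl fun v _ => ?_
      by_cases hv : (v : Y) = 1
      · have h1 : c v = 0 := if_pos hv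
        rw [h1, zero_mul, hv, inv_one, one_mul]
        apply fJ_zero
        intro h2
        have h3 : Rp cs R.nsys (cs.simple i * w) ((n i)⁻¹ * g) := by
          have := (rp_simple cs R.nsys i).inv.mul hg
          rwa [cs.inv_simple] at this
        have h4 := Zc.nonpos R (Zc_of_mem R hg₀ h2) h3 hi
        rw [rep_simple_mul_inv] at h4
        exact hroot.not_pos_neg (neg_nonpos.1 h4) hneg
      · have h1 : c v = (χ (t v) : k) := if_neg hv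
        obtain ⟨y, hy, b, hb, e⟩ := ht v hv
        have e1 : (n i)⁻¹ * ((v : Y)⁻¹ * g) = b⁻¹ * (((t v)⁻¹ : T) * (g * (g⁻¹ * y⁻¹ * g))) := by
          have e2 : (n i)⁻¹ * ((v : Y)⁻¹ * g) = ((v : Y) * n i)⁻¹ * g := by group
          rw [e2, e, Subgroup.coe_inv]; group
        have h5 : g⁻¹ * y⁻¹ * g ∈ RGD.Sup X (RGD.Pos cs h) := by
          have := R.conj_mem' hg (isRoot_sr cs h i).neg (inv_mem hy)
          rw [map_neg] at this
          exact RGD.le_Sup (S := RGD.Pos cs h) ⟨hroot.neg, neg_nonneg.2 hneg⟩ this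
        rw [e1, fJ_left R hχ (U_le_OJ J (hU (inv_mem hb))), fJ_T R hχ, fJ_right R hχ h5, h1, map_inv, inv_inv]
  refine ⟨∑ v, c v, ?_, ?_⟩
  · funext x
    obtain ⟨w, g, hg, u₁, hu₁, u₂, hu₂, rfl⟩ := exists_bruhat R hG x
    have hf : fJ (k := k) cs h X J g₀ χ ∈ fx (lft Y k) (RGD.Sup X (RGD.Pos cs h)) := by
      intro u hu
      funext z
      rw [lft_apply, fJ_left R hχ (U_le_OJ J (inv_mem hu))]
    have h1 := Ti_fix R (lft Y k) hf i
    have h2 : Ti n X (lft Y k) i (fJ cs h X J g₀ χ) (u₁ * g * u₂) = Ti n X (lft Y k) i (fJ cs h X J g₀ χ) (g * u₂) := by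
      have h3 := congrFun (h1 u₁⁻¹ (inv_mem hu₁)) (g * u₂)
      rw [lft_apply, inv_inv, ← mul_assoc] at h3
      exact h3
    have h3 : Ti n X (lft Y k) i (fJ cs h X J g₀ χ) (g * u₂) = Ti n X (lft Y k) i (fJ cs h X J g₀ χ) g := by
      rw [Ti_lft, Ti_lft]
      refine Finset.sum_congr rfl fun v _ => ?_
      have e : (n i)⁻¹ * ((v : Y)⁻¹ * (g * u₂)) = (n i)⁻¹ * ((v : Y)⁻¹ * g) * u₂ := by group
      rw [e, fJ_right R hχ hu₂]
    rw [h2, h3, key w g hg]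
    change _ = (∑ v, c v) * fJ cs h X J g₀ χ (u₁ * g * u₂)
    rw [fJ_right R hχ hu₂, fJ_left R hχ (U_le_OJ J hu₁)]
  · intro hn hχi
    have h1 : ∀ v : X (sr i), c v = if v = 1 then 0 else 1 := by
      intro v
      by_cases hv : (v : Y) = 1
      · have : v = 1 := Subtype.ext hv
        rw [if_pos this]
        exact if_pos hv
      · have : v ≠ 1 := fun h => hv (by rw [h]; rfl)
        rw [if_neg this]
        have h2 : c v = (χ (t v) : k) := if_neg hv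
        rw [h2]
        obtain ⟨y, hy, b, hb, e⟩ := ht v hv
        rw [hχi, Units.val_one]
        have e1 : (t v : Y) = y⁻¹ * ((v : Y) * n i) * b⁻¹ := by rw [e]; group
        rw [e1]
        exact mul_mem (mul_mem (inv_mem (Subgroup.mem_sup_right hy)) (mul_mem (Subgroup.mem_sup_left v.2) hn))
          (inv_mem (Subgroup.mem_sup_left hb))
    have h2 : ∀ v : X (sr i), c v = 1 - (if v = 1 then 1 else 0) := by
      intro v
      rw [h1]
      split_ifs <;> simp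
    rw [Finset.sum_congr rfl fun v _ => h2 v, Finset.sum_sub_distrib, Finset.sum_const, Finset.card_univ,
      nsmul_eq_mul, ← Nat.card_eq_fintype_card, (CharP.cast_eq_zero_iff k p _).2 (p_dvd R i), zero_mul,
      Finset.sum_ite_eq' , if_pos (Finset.mem_univ _), zero_sub]

end

end Cfsg.Agent.H945
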