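import Cfsg.Agent.H945.Weight
import Cfsg.Agent.H945.Exist

/-!
# The eigenvalues of the Hecke operators, helper945

`Wt.cases` : for a weight vector `m` of weight `(χ, l)` either `l i = 0`, or `l i = -1` and `χ` is trivial on
`T ∩ ⟨X_i, X_{-i}⟩`.
-/

set_option autoImplicit false
set_option linter.unusedSectionVars false

namespace Cfsg.Agent.H945

open CoxeterSystem Cfsg.Agent.ChevalleyStructure.CoxeterGeom Cfsg.Agent.Tits.Roots Cfsg.Agent.Tits.Core
  Cfsg.Agent.Tits.Exchange Cfsg.Agent.Nodes.Reps Cfsg.Agent.Nodes.BNOf Cfsg.Agent.Nodes.StabComb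
  Cfsg.Agent.Nodes.Bruhat Cfsg.Agent.Nodes.OppDec Cfsg.Agent.Nodes.LeviDec Cfsg.Agent.KFacts.RgdOpp
open Cfsg.Agent.Omega.CR

/-- vectors of a `p`-group orbit are independent if the norm element does not kill -/
theorem orbit_indep {Y k V : Type*} [Group Y] [Finite Y] [Field k] [AddCommGroup V] [Module k V]
    (ρ : Y →* Module.End k V) {p : ℕ} [Fact p.Prime] [CharP k p] {P : Subgroup Y} (hP : IsPGroup p P) {m : V}
    (h0 : sg ρ P m ≠ 0) : LinearIndependent k fun y : P => ρ (y : Y) m := by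
  classical
  let _ := Fintype.ofFinite P
  let K : Submodule k (P → k) :=
    { carrier := {g | ∑ y, g y • ρ (y : Y) m = 0}
      zero_mem' := by simp
      add_mem' := by
        intro a b (ha : ∑ y, a y • ρ (y : Y) m = 0) (hb : ∑ y, b y • ρ (y : Y) m = 0)
        change ∑ y, (a y + b y) • ρ (y : Y) m = 0
        simp only [add_smul]
        rw [Finset.sum_add_distrib, ha, hb, add_zero]
      smul_mem' := by
        intro c a (ha : ∑ y, a y • ρ (y : Y) m = 0)
        change ∑ y, (c * a y) • ρ (y : Y) m = 0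
        simp only [mul_smul]
        rw [← Finset.smul_sum, ha, smul_zero] }
  have hK : ∀ g, g ∈ K ↔ ∑ y, g y • ρ (y : Y) m = 0 := fun _ => Iff.rfl
  have hbot : K = ⊥ := by
    by_contra hne
    have hinv : ∀ a ∈ (⊤ : Subgroup P), ∀ g ∈ K, lft P k a g ∈ K := by
      intro a _ g hg
      rw [hK] at hg ⊢
      have h1 : ∑ y, lft P k a g y • ρ (y : Y) m = ∑ y, g y • ρ ((a : Y) * y) m := by
        refine (Fintype.sum_equiv (Equiv.mulLeft a) _ _ fun y => ?_).symm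
        rw [lft_apply]
        change g y • ρ ((a : Y) * y) m = g (a⁻¹ * (a * y)) • ρ ((a * y : P) : Y) m
        rw [inv_mul_cancel_left, Subgroup.coe_mul]
      rw [h1]
      have h2 : ∀ y : P, g y • ρ ((a : Y) * y) m = ρ a (g y • ρ (y : Y) m) := by
        intro y
        rw [map_smul, rho_mul]
      rw [Finset.sum_congr rfl fun y _ => h2 y, ← map_sum, hg, map_zero]
    have hP' : IsPGroup p (⊤ : Subgroup P) := hP.to_subgroup _
    obtain ⟨g, hg, hg0, hfix⟩ := exists_fixed (lft P k) hP' K hinv hne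
    have hconst : ∀ y : P, g y = g 1 := by
      intro y
      have h1 := congrFun (hfix y (Subgroup.mem_top y)) y
      rw [lft_apply, inv_mul_cancel] at h1
      exact h1.symm
    rw [hK, Finset.sum_congr rfl fun y _ => by rw [hconst y], ← Finset.smul_sum, ← sg_def] at hg
    rcases smul_eq_zero.1 hg with h1 | h1
    · exact hg0 (funext fun y => (hconst y).trans h1)
    · exact h0 h1
  rw [Fintype.linearIndependent_iff]
  intro g hg y
  have h1 : g ∈ K := hg
  rw [hbot, Submodule.mem_bot] at h1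
  rw [h1]; rfl

section

variable {I W Y : Type*} [Fintype I] [DecidableEq I] [Group W] [Group Y] [Finite Y] {M : CoxeterMatrix I}
  {cs : CoxeterSystem M W} {A : I → I → ℤ} {h : IsCartan M A} {p : ℕ} {T : Subgroup Y} {n : I → Y}
  {X : (I → ℤ) → Subgroup Y}
  {k V : Type*} [Field k] [AddCommGroup V] [Module k V] {ρ : Y →* Module.End k V}

theorem X_eq_cj (R : RGD cs h p T n X) (i : I) :
    (X (sr i)).map (MulAut.conj (n i)⁻¹).toMonoidHom = X (-sr i) := by
  have h1 := R.conj i (-sr i) (isRoot_sr cs h i).neg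
  rw [map_neg, rep_simple_sr, neg_neg] at h1
  rw [← h1]
  change cj (n i)⁻¹ (cj (n i) (X (-sr i))) = _
  rw [← cj_mul, inv_mul_cancel, cj_one]

/-- **The eigenvalues.** -/
theorem Wt.cases [Finite W] [Fact p.Prime] [CharP k p] (R : RGD cs h p T n X) {χ : T →* kˣ} {l : I → k} {m : V}
    (hm : Wt cs h n X ρ χ l m) {i : I} (hn : n i ∈ X (sr i) ⊔ X (-sr i)) :
    l i = 0 ∨ (l i = -1 ∧ ∀ t : T, (t : Y) ∈ X (sr i) ⊔ X (-sr i) → χ t = 1) := by
  classical
  by_cases hl : l i = 0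
  · exact Or.inl hl
  right
  let _ := Fintype.ofFinite (X (sr i))
  let _ := Fintype.ofFinite (X (-sr i))
  have hB : X (sr i) ≤ RGD.B cs h T X := RGD.X_le_B (isRoot_sr cs h i) (sr_nonneg i)
  -- the norm element
  have hN : sg ρ (X (-sr i)) m = l i • ρ (n i)⁻¹ m := by
    have h1 := congrArg (ρ (n i)⁻¹) (hm.ti i)
    rw [Ti_apply, rho_sg, X_eq_cj R i, rho_inv_rho, map_smul] at h1
    exact h1
  have hN0 : sg ρ (X (-sr i)) m ≠ 0 := by
    rw [hN]
    exact smul_ne_zero hl (rho_ne_zero ρ _ hm.ne)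
  have hind := orbit_indep ρ (R.pgrp' (isRoot_sr cs h i).neg) hN0
  have hfixX : ∀ {x : Y}, x ∈ X (sr i) → ρ x m = m := fun hx => X_fix R ρ hm.fix i hx
  -- the vector `e = n_i⁻¹ m`
  set e : V := ρ (n i)⁻¹ m with he
  have hsq : n i * n i ∈ T := n_sq R i
  obtain ⟨ζ, hζdef⟩ : ∃ ζ : kˣ, ζ = χ ⟨n i * n i, hsq⟩ := ⟨_, rfl⟩
  have hζ : ρ (n i)⁻¹ (ρ (n i)⁻¹ m) = ((ζ⁻¹ : kˣ) : k) • m := by
    have h1 := hm.tor ⟨n i * n i, hsq⟩⁻¹
    rw [map_inv, ← hζdef] at h1
    rw [← rho_mul, ← mul_inv_rev]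
    exact h1
  have h0 : ∀ v : X (sr i), (v : Y) ≠ 1 → ∃ y : X (-sr i), ∃ t : T, ∃ b ∈ X (sr i),
      (v : Y) * n i = y * t * b := by
    intro v hv
    obtain ⟨y, hy, t, ht, b, hb, e⟩ := mul_n R i v.2 hv
    exact ⟨⟨y, hy⟩, ⟨t, ht⟩, b, hb, e⟩
  choose! y t ht using h0
  -- `v e = c_v e_{y_v}`
  have hve : ∀ v : X (sr i), (v : Y) ≠ 1 →
      ρ (v : Y) e = ((χ (t v) * ζ⁻¹ : kˣ) : k) • ρ (y v : Y) m := by
    intro v hv
    obtain ⟨b, hb, e1⟩ := ht v hv
    have h1 : ρ (v : Y) e = ρ ((v : Y) * n i) (ρ (n i)⁻¹ (ρ (n i)⁻¹ m)) := by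
      rw [he, ← rho_mul, ← rho_mul, ← rho_mul]
      congr 2
      group
    rw [h1, hζ, map_smul, e1, rho_mul, rho_mul, hfixX hb, hm.tor, map_smul, smul_smul, mul_comm, Units.val_mul]
  -- `y` is injective
  have hyne : ∀ v : X (sr i), (v : Y) ≠ 1 → y v ≠ 1 := by
    intro v hv h1
    obtain ⟨b, hb, e1⟩ := ht v hv
    rw [h1, Subgroup.coe_one, one_mul] at e1
    have h2 : n i = ((v : Y))⁻¹ * (t v) * b := by
      rw [mul_assoc, ← e1]; group
    have h3 : n i ∈ RGD.B cs h T X := by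
      rw [h2]
      exact mul_mem (mul_mem (inv_mem (hB v.2)) (RGD.T_le_B (t v).2)) (hB hb)
    have h5 := R.eq_one_of_mem_B (rp_simple cs R.nsys i) h3
    have h6 := cs.length_simple i
    rw [h5, cs.length_one] at h6
    exact absurd h6 (by decide)
  have hyinj : ∀ v w : X (sr i), (v : Y) ≠ 1 → (w : Y) ≠ 1 → y v = y w → v = w := by
    intro v w hv hw h1
    obtain ⟨b, hb, e1⟩ := ht v hv
    obtain ⟨b', hb', e2⟩ := ht w hw
    rw [h1] at e1
    have h2 : (n i)⁻¹ * ((w : Y)⁻¹ * v) * n i ∈ RGD.B cs h T X := by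
      have e3 : (n i)⁻¹ * ((w : Y)⁻¹ * v) * n i = ((w : Y) * n i)⁻¹ * (v * n i) := by group
      have e4 : ((w : Y) * n i)⁻¹ * (v * n i) = b'⁻¹ * (t w : Y)⁻¹ * (t v) * b := by
        rw [e1, e2]; group
      rw [e3, e4]
      exact mul_mem (mul_mem (mul_mem (inv_mem (hB hb')) (inv_mem (RGD.T_le_B (t w).2))) (RGD.T_le_B (t v).2)) (hB hb)
    have hk : Rp cs R.nsys (cs.simple i) (n i)⁻¹ := by
      have := (rp_simple cs R.nsys i).inv
      rwa [cs.inv_simple] at this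
    have h3 := eq_one_of_conj_mem_B R (mul_mem (inv_mem w.2) v.2) hk (by rw [inv_inv]; exact h2)
    exact (Subtype.ext (inv_mul_eq_one.1 h3)).symm
  let φ : X (sr i) → X (-sr i) := fun v => if (v : Y) = 1 then 1 else y v
  have hφ1 : φ 1 = 1 := if_pos rfl
  have hφy : ∀ v : X (sr i), (v : Y) ≠ 1 → φ v = y v := fun v hv => if_neg hv
  have hφ : Function.Bijective φ := by
    rw [Fintype.bijective_iff_injective_and_card]
    constructor
    · intro v w hvw
      by_cases hv : (v : Y) = 1 <;> by_cases hw : (w : Y) = 1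
      · exact Subtype.ext (hv.trans hw.symm)
      · have h1 : v = 1 := Subtype.ext hv
        rw [h1, hφ1, hφy w hw] at hvw
        exact absurd hvw.symm (hyne w hw)
      · have h1 : w = 1 := Subtype.ext hw
        rw [h1, hφ1, hφy v hv] at hvw
        exact absurd hvw (hyne v hv)
      · rw [hφy v hv, hφy w hw] at hvw
        exact hyinj v w hv hw hvw
    · rw [← Nat.card_eq_fintype_card, ← Nat.card_eq_fintype_card, ← X_eq_cj R i]
      exact (Nat.card_congr ((X (sr i)).equivMapOfInjective _ (MulAut.conj (n i)⁻¹).injective).toEquiv)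
  -- the sum of `v e`
  have hsum : ∑ v : X (sr i), ρ (v : Y) e = (((ζ⁻¹ : kˣ) : k) * l i) • m := by
    have h1 := hm.ti i
    rw [Ti_apply] at h1
    have h2 : ρ (n i) (ρ (n i)⁻¹ (ρ (n i)⁻¹ m)) = e := by rw [rho_rho_inv]
    rw [hζ, map_smul] at h2
    rw [← sg_def, ← h2, map_smul, h1, smul_smul]
  let d : X (sr i) → k := fun v => if (v : Y) = 1 then - (l i * (((ζ⁻¹ : kˣ) : k) * l i)) else
    l i * ((χ (t v) * ζ⁻¹ : kˣ) : k)
  have hd1 : ∀ v : X (sr i), (v : Y) ≠ 1 → d v = l i * ((χ (t v) * ζ⁻¹ : kˣ) : k) := fun v hv => if_neg hv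
  have hd0 : d 1 = - (l i * (((ζ⁻¹ : kˣ) : k) * l i)) := if_pos rfl
  have hrel : ∑ v : X (sr i), (1 + d v) • ρ (φ v : Y) m = 0 := by
    simp only [add_smul, one_smul]
    rw [Finset.sum_add_distrib, hφ.sum_comp (fun y : X (-sr i) => ρ (y : Y) m), ← sg_def, hN]
    have h1 : ∑ v : X (sr i), d v • ρ (φ v : Y) m = - (l i • e) := by
      rw [← Finset.add_sum_erase _ _ (Finset.mem_univ (1 : X (sr i))), hφ1, Subgroup.coe_one, rho_one, hd0]
      have h2 : ∀ v ∈ (Finset.univ : Finset (X (sr i))).erase 1, d v • ρ (φ v : Y) m = l i • ρ (v : Y) e := by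
        intro v hv
        have hv1 : (v : Y) ≠ 1 := fun h => (Finset.mem_erase.1 hv).1 (Subtype.ext h)
        rw [hd1 v hv1, hφy v hv1, hve v hv1, smul_smul]
      rw [Finset.sum_congr rfl h2, ← Finset.smul_sum]
      have h3 : ∑ v ∈ (Finset.univ : Finset (X (sr i))).erase 1, ρ (v : Y) e = (((ζ⁻¹ : kˣ) : k) * l i) • m - e := by
        rw [← hsum, ← Finset.add_sum_erase _ _ (Finset.mem_univ (1 : X (sr i))), Subgroup.coe_one, rho_one]
        abel
      rw [h3, smul_sub, smul_smul, neg_smul]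
      abel
    rw [h1]
    abel
  have hind' : LinearIndependent k fun v : X (sr i) => ρ (φ v : Y) m := hind.comp φ hφ.1
  rw [Fintype.linearIndependent_iff] at hind'
  have hd : ∀ v, 1 + d v = 0 := hind' _ hrel
  -- the permuted vectors
  let Ω : Set V := insert (-(l i • e)) (Set.range fun y : X (-sr i) => ρ (y : Y) m)
  have hve' : ∀ v : X (sr i), (v : Y) ≠ 1 → ρ (v : Y) (-(l i • e)) = ρ (φ v : Y) m := by
    intro v hv
    have h1 := hd v
    rw [hd1 v hv] at h1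
    rw [map_neg, map_smul, hve v hv, smul_smul, ← neg_smul, hφy v hv]
    have h2 : -(l i * ((χ (t v) * ζ⁻¹ : kˣ) : k)) = 1 := by
      linear_combination (-1 : k) * h1
    rw [h2, one_smul]
  have hXe : ∀ v ∈ X (sr i), ρ v (-(l i • e)) ∈ Ω := by
    intro v hv
    by_cases hv1 : v = 1
    · rw [hv1, rho_one]
      exact Set.mem_insert _ _
    · rw [hve' ⟨v, hv⟩ hv1]
      exact Set.mem_insert_of_mem _ ⟨_, rfl⟩
  have hXΩ : ∀ v ∈ X (sr i), ∀ ω ∈ Ω, ρ v ω ∈ Ω := by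
    rintro v hv ω (rfl | ⟨y', rfl⟩)
    · exact hXe v hv
    · obtain ⟨w, rfl⟩ := hφ.2 y'
      by_cases hw : (w : Y) = 1
      · have h1 : w = 1 := Subtype.ext hw
        rw [h1, hφ1]
        change ρ v (ρ ((1 : X (-sr i)) : Y) m) ∈ Ω
        rw [Subgroup.coe_one, rho_one, hfixX hv]
        exact Set.mem_insert_of_mem _ ⟨1, by change ρ ((1 : X (-sr i)) : Y) m = m; rw [Subgroup.coe_one, rho_one]⟩
      · change ρ v (ρ (φ w : Y) m) ∈ Ω
        rw [← hve' w hw, ← rho_mul]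
        exact hXe _ (mul_mem hv w.2)
  have hNΩ : ∀ v ∈ X (-sr i), ∀ ω ∈ Ω, ρ v ω ∈ Ω := by
    rintro v hv ω (rfl | ⟨y', rfl⟩)
    · rw [map_neg, ← hN, rho_sg_of_mem ρ _ hv, hN]
      exact Set.mem_insert _ _
    · change ρ v (ρ (y' : Y) m) ∈ Ω
      rw [← rho_mul]
      exact Set.mem_insert_of_mem _ ⟨⟨v, hv⟩ * y', rfl⟩
  let K : Subgroup Y :=
    { carrier := {g | (∀ ω ∈ Ω, ρ g ω ∈ Ω) ∧ ∀ ω ∈ Ω, ρ g⁻¹ ω ∈ Ω}
      one_mem' := ⟨fun ω hω => by rwa [rho_one], fun ω hω => by rwa [inv_one, rho_one]⟩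
      mul_mem' := by
        intro a b ha hb
        refine ⟨fun ω hω => ?_, fun ω hω => ?_⟩
        · rw [rho_mul]; exact ha.1 _ (hb.1 _ hω)
        · rw [mul_inv_rev, rho_mul]; exact hb.2 _ (ha.2 _ hω)
      inv_mem' := by
        intro a ha
        exact ⟨ha.2, fun ω hω => by rw [inv_inv]; exact ha.1 _ hω⟩ }
  have hLK : X (sr i) ⊔ X (-sr i) ≤ K := sup_le (fun v hv => ⟨hXΩ v hv, hXΩ _ (inv_mem hv)⟩)
    (fun v hv => ⟨hNΩ v hv, hNΩ _ (inv_mem hv)⟩)
  have hmΩ : m ∈ Ω := Set.mem_insert_of_mem _ ⟨1, rho_one ρ m⟩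
  obtain ⟨v₀, hv₀, hv₀1⟩ := exists_ne_one R i
  rw [Fintype.linearIndependent_iff] at hind
  have hχ1 : ∀ t : T, (t : Y) ∈ X (sr i) ⊔ X (-sr i) → χ t = 1 := by
    intro t htL
    have h1 := (hLK htL).1 m hmΩ
    rw [hm.tor t] at h1
    rcases h1 with h1 | ⟨y', h1⟩
    · exfalso
      rw [← hN, sg_def] at h1
      have h2 : ∑ y' : X (-sr i), ((if y' = 1 then (χ t : k) else 0) + 1) • ρ (y' : Y) m = 0 := by
        simp only [add_smul, ite_smul, zero_smul, one_smul]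
        rw [Finset.sum_add_distrib, Finset.sum_ite_eq' , if_pos (Finset.mem_univ _), Subgroup.coe_one, rho_one, h1]
        abel
      have h3 := hind _ h2 (φ ⟨v₀, hv₀⟩)
      rw [hφy _ hv₀1, if_neg (hyne _ hv₀1), zero_add] at h3
      exact one_ne_zero h3
    · change ρ (y' : Y) m = (χ t : k) • m at h1
      have h2 : ∑ z : X (-sr i), ((if z = 1 then (χ t : k) else 0) + (if z = y' then (-1 : k) else 0)) •
          ρ (z : Y) m = 0 := by
        simp only [add_smul, ite_smul, zero_smul]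
        rw [Finset.sum_add_distrib, Finset.sum_ite_eq' , if_pos (Finset.mem_univ _), Finset.sum_ite_eq' ,
          if_pos (Finset.mem_univ _), Subgroup.coe_one, rho_one, h1, neg_smul, one_smul]
        abel
      have h3 := hind _ h2 1
      rw [if_pos rfl] at h3
      by_cases h4 : (1 : X (-sr i)) = y'
      · rw [if_pos h4] at h3
        exact Units.ext (by rw [Units.val_one]; linear_combination h3)
      · rw [if_neg h4, add_zero] at h3
        exact absurd h3 (Units.ne_zero _)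
  refine ⟨?_, hχ1⟩
  have h1 := hd ⟨v₀, hv₀⟩
  rw [hd1 _ hv₀1, hζdef, hχ1 _ ?_, hχ1 _ ?_, inv_one, mul_one, Units.val_one, mul_one] at h1
  · linear_combination h1
  · exact mul_mem hn hn
  · obtain ⟨b, hb, e1⟩ := ht ⟨v₀, hv₀⟩ hv₀1
    have e2 : (t ⟨v₀, hv₀⟩ : Y) = (y ⟨v₀, hv₀⟩ : Y)⁻¹ * (v₀ * n i) * b⁻¹ := by rw [e1]; group
    rw [e2]
    exact mul_mem (mul_mem (inv_mem (Subgroup.mem_sup_right (y ⟨v₀, hv₀⟩).2))
      (mul_mem (Subgroup.mem_sup_left hv₀) hn)) (inv_mem (Subgroup.mem_sup_left hb))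

end

end Cfsg.Agent.H945
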