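import Cfsg.Agent.H945.Weight

/-!
# Irreducible representations and simple modules over the group algebra, helper945
-/

set_option autoImplicit false
set_option linter.unusedSectionVars false

namespace Cfsg.Agent.H945

open Cfsg.Agent.Omega.CR

section

variable {Y k V : Type*} [Group Y] [Field k] [AddCommGroup V] [Module k V]

theorem asModule_single (τ : Representation k Y V) (g : Y) (v : V) :
    (MonoidAlgebra.single g (1 : k) : MonoidAlgebra k Y) • (τ.asModuleEquiv.symm v) = τ.asModuleEquiv.symm (τ g v) := by
  apply τ.asModuleEquiv.injective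
  rw [Representation.asModuleEquiv_map_smul, Representation.asAlgebraHom_single_one, LinearEquiv.apply_symm_apply,
    LinearEquiv.apply_symm_apply]

/-- an irreducible representation gives a simple module -/
theorem isSimpleModule_of_irr (τ : Representation k Y V) (hτ : Irr τ) :
    IsSimpleModule (MonoidAlgebra k Y) τ.asModule := by
  rw [isSimpleModule_iff]
  have hnt : Nontrivial τ.asModule := hτ.1
  refine { exists_pair_ne := ⟨⊥, ⊤, bot_ne_top⟩, eq_bot_or_eq_top := fun N => ?_ }
  let L : Submodule k V := (N.restrictScalars k).map τ.asModuleEquiv.toLinearMap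
  have hL : ∀ v, v ∈ L ↔ τ.asModuleEquiv.symm v ∈ N := by
    intro v
    constructor
    · rintro ⟨x, hx, rfl⟩
      change τ.asModuleEquiv.symm (τ.asModuleEquiv x) ∈ N
      rw [LinearEquiv.symm_apply_apply]
      exact hx
    · intro hv
      exact ⟨_, hv, LinearEquiv.apply_symm_apply _ _⟩
  have hinv : ∀ g : Y, ∀ v ∈ L, τ g v ∈ L := by
    intro g v hv
    rw [hL] at hv ⊢
    rw [← asModule_single]
    exact N.smul_mem _ hv
  rcases hτ.2 L hinv with h1 | h1
  · left
    rw [eq_bot_iff]
    intro x hx
    have h2 : τ.asModuleEquiv x ∈ L := by rw [hL, LinearEquiv.symm_apply_apply]; exact hx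
    rw [h1, Submodule.mem_bot] at h2
    rw [Submodule.mem_bot]
    exact τ.asModuleEquiv.injective (by rw [h2, map_zero])
  · right
    rw [eq_top_iff]
    intro x _
    have h2 : τ.asModuleEquiv x ∈ L := by rw [h1]; trivial
    rw [hL, LinearEquiv.symm_apply_apply] at h2
    exact h2

/-- the representation of a module over the group algebra -/
noncomputable def repOf (k Y V : Type*) [Group Y] [Field k] [AddCommGroup V] [Module k V] [Module (MonoidAlgebra k Y) V]
    [IsScalarTower k (MonoidAlgebra k Y) V] : Y →* Module.End k V where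
  toFun g :=
    { toFun := fun v => (MonoidAlgebra.single g (1 : k) : MonoidAlgebra k Y) • v
      map_add' := fun v w => smul_add _ v w
      map_smul' := fun c v => by
        rw [RingHom.id_apply, ← algebraMap_smul (MonoidAlgebra k Y) c v,
          ← algebraMap_smul (MonoidAlgebra k Y) c ((MonoidAlgebra.single g (1 : k) : MonoidAlgebra k Y) • v),
          smul_smul, smul_smul, Algebra.commutes c (MonoidAlgebra.single g (1 : k) : MonoidAlgebra k Y)] }
  map_one' := by
    refine LinearMap.ext fun v => ?_
    change (MonoidAlgebra.single (1 : Y) (1 : k) : MonoidAlgebra k Y) • v = v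
    rw [← MonoidAlgebra.one_def, one_smul]
  map_mul' a b := by
    refine LinearMap.ext fun v => ?_
    change (MonoidAlgebra.single (a * b) (1 : k) : MonoidAlgebra k Y) • v =
      (MonoidAlgebra.single a (1 : k) : MonoidAlgebra k Y) • ((MonoidAlgebra.single b (1 : k) : MonoidAlgebra k Y) • v)
    rw [smul_smul, MonoidAlgebra.single_mul_single, one_mul]

theorem repOf_apply [Module (MonoidAlgebra k Y) V] [IsScalarTower k (MonoidAlgebra k Y) V] (g : Y) (v : V) :
    repOf k Y V g v = (MonoidAlgebra.single g (1 : k) : MonoidAlgebra k Y) • v := rfl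

/-- the group algebra acts through the group elements -/
theorem smul_eq_sum [Module (MonoidAlgebra k Y) V] [IsScalarTower k (MonoidAlgebra k Y) V] (P : V → Prop)
    (hadd : ∀ v w, P v → P w → P (v + w)) (hsm : ∀ (c : k) v, P v → P (c • v)) {v : V}
    (hg : ∀ g, P (repOf k Y V g v)) (a : MonoidAlgebra k Y) : P (a • v) := by
  induction a using MonoidAlgebra.induction_on with
  | of g => exact hg g
  | add f g hf hg' => rw [add_smul]; exact hadd _ _ hf hg'
  | smul c f hf => rw [smul_assoc]; exact hsm c _ hf

theorem irr_repOf [Module (MonoidAlgebra k Y) V] [IsScalarTower k (MonoidAlgebra k Y) V]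
    [hs : IsSimpleModule (MonoidAlgebra k Y) V] : Irr (repOf k Y V) := by
  refine ⟨IsSimpleModule.nontrivial (MonoidAlgebra k Y) V, fun L hL => ?_⟩
  let N : Submodule (MonoidAlgebra k Y) V :=
    { carrier := L
      zero_mem' := L.zero_mem
      add_mem' := fun hv hw => L.add_mem hv hw
      smul_mem' := fun a v hv => smul_eq_sum (· ∈ L) (fun _ _ => L.add_mem) (fun c _ => L.smul_mem c)
        (fun g => hL g v hv) a }
  rcases eq_bot_or_eq_top N with h1 | h1
  · left
    ext v
    have : v ∈ L ↔ v ∈ N := Iff.rfl
    rw [this, h1]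
    simp
  · right
    ext v
    have : v ∈ L ↔ v ∈ N := Iff.rfl
    rw [this, h1]
    simp

/-- an equivariant linear equivalence is linear over the group algebra -/
theorem exists_linearEquiv [Module (MonoidAlgebra k Y) V] [IsScalarTower k (MonoidAlgebra k Y) V] {V' : Type*}
    [AddCommGroup V'] [Module k V'] (τ : Representation k Y V') (e : V ≃ₗ[k] V')
    (he : ∀ g v, e (repOf k Y V g v) = τ g (e v)) : Nonempty (V ≃ₗ[MonoidAlgebra k Y] τ.asModule) := by
  let f : V ≃ₗ[k] τ.asModule := e.trans τ.asModuleEquiv.symm
  have hf : ∀ (a : MonoidAlgebra k Y) (v : V), f (a • v) = a • f v := ?_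
  · exact ⟨{ f with map_smul' := fun a v => hf a v }⟩
  intro a v
  induction a using MonoidAlgebra.induction_on with
  | of g =>
    change τ.asModuleEquiv.symm (e (repOf k Y V g v)) =
      (MonoidAlgebra.single g (1 : k) : MonoidAlgebra k Y) • (τ.asModuleEquiv.symm (e v))
    rw [asModule_single, he]
  | add x y hx hy => rw [add_smul, map_add, hx, hy, add_smul]
  | smul c x hx => rw [smul_assoc, map_smul, hx, smul_assoc]

/-- a linear equivalence over the group algebra is equivariant -/
theorem exists_equivariant {V' : Type*} [AddCommGroup V'] [Module k V'] (τ : Representation k Y V)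
    (τ' : Representation k Y V') (e : τ.asModule ≃ₗ[MonoidAlgebra k Y] τ'.asModule) :
    ∃ f : V ≃ₗ[k] V', ∀ g v, f (τ g v) = τ' g (f v) := by
  refine ⟨τ.asModuleEquiv.symm.trans ((e.restrictScalars k).trans τ'.asModuleEquiv), fun g v => ?_⟩
  change τ'.asModuleEquiv (e (τ.asModuleEquiv.symm (τ g v))) = τ' g (τ'.asModuleEquiv (e (τ.asModuleEquiv.symm v)))
  rw [← asModule_single, map_smul, Representation.asModuleEquiv_map_smul, Representation.asAlgebraHom_single_one]

end

end Cfsg.Agent.H945
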