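import Cfsg.Agent.H945.Simple
import Cfsg.Agent.H945.Cases
import Cfsg.Agent.H945.Torus
import Cfsg.Agent.H945.Conv
import Cfsg.Agent.H135.BrauerCount

/-!
# The number of `p`-regular classes of a group with a root group datum, helper945

* `card_regular_eq` : it is the number of pairs `(χ, K)`, `χ : T →* kˣ`, `K ⊆ {i | χ trivial on T ∩ ⟨X_i, X_{-i}⟩}`;
* `card_regular_of_torus` : `(|C| + 1) ^ l` if `T` is the direct product of the `T ∩ ⟨X_i, X_{-i}⟩ ≅ C`.
-/

set_option autoImplicit false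
set_option linter.unusedSectionVars false

namespace Cfsg.Agent.H945

open CoxeterSystem Cfsg.Agent.ChevalleyStructure.CoxeterGeom Cfsg.Agent.Tits.Roots Cfsg.Agent.Tits.Core
  Cfsg.Agent.Tits.Exchange Cfsg.Agent.Nodes.Reps Cfsg.Agent.Nodes.BNOf Cfsg.Agent.Nodes.StabComb
  Cfsg.Agent.Nodes.Bruhat Cfsg.Agent.Nodes.OppDec Cfsg.Agent.Nodes.LeviDec Cfsg.Agent.KFacts.RgdOpp
open Cfsg.Agent.Omega.CR

universe u v

section

variable {I : Type*} {W : Type*} {Y : Type v} [Fintype I] [DecidableEq I] [Group W] [Group Y] [Finite Y]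
  {M : CoxeterMatrix I}
  {cs : CoxeterSystem M W} {A : I → I → ℤ} {h : IsCartan M A} {p : ℕ} {T : Subgroup Y} {n : I → Y}
  {X : (I → ℤ) → Subgroup Y} {k : Type u} [Field k]

/-- the weights -/
def WtSet (T : Subgroup Y) (X : (I → ℤ) → Subgroup Y) (k : Type u) [Field k] : Type _ :=
  {w : (T →* kˣ) × Set I // ∀ i ∈ w.2, ∀ t : T, (t : Y) ∈ X (sr i) ⊔ X (-sr i) → w.1 t = 1}

open Classical in
/-- the eigenvalues -/
noncomputable def lOf (k : Type u) [Field k] (K : Set I) : I → k := fun i => if i ∈ K then -1 else 0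

theorem lOf_inj {K K' : Set I} (hK : lOf k K = lOf k K') : K = K' := by
  classical
  ext i
  have h1 := congrFun hK i
  unfold lOf at h1
  by_cases h2 : i ∈ K <;> by_cases h3 : i ∈ K'
  · exact ⟨fun _ => h3, fun _ => h2⟩
  · rw [if_pos h2, if_neg h3, neg_eq_zero] at h1
    exact absurd h1 one_ne_zero
  · rw [if_neg h2, if_pos h3] at h1
    exact absurd (neg_eq_zero.1 h1.symm) one_ne_zero
  · exact ⟨fun h => absurd h h2, fun h => absurd h h3⟩

variable [Finite W] [Fact p.Prime] [CharP k p]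

/-- every weight occurs -/
theorem exists_irr_weight (R : RGD cs h p T n X) (hG : GG cs h T X = ⊤) (hn : ∀ i, n i ∈ X (sr i) ⊔ X (-sr i))
    (w : WtSet T X k) :
    ∃ (S : Submodule k (Y → k)) (L : Submodule k S) (τ : Y →* Module.End k (S ⧸ L)) (m' : S ⧸ L), Irr τ ∧
      Wt cs h n X τ w.1.1 (lOf k w.1.2) m' := by
  classical
  obtain ⟨⟨χ, K⟩, hw⟩ := w
  change ∃ (S : Submodule k (Y → k)) (L : Submodule k S) (τ : Y →* Module.End k (S ⧸ L)) (m' : S ⧸ L), Irr τ ∧
      Wt cs h n X τ χ (lOf k K) m'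
  let J : Set I := {i | i ∉ K ∧ ∀ t : T, (t : Y) ∈ X (sr i) ⊔ X (-sr i) → χ t = 1}
  have hχ : ∀ t : T, (t : Y) ∈ DJ cs h X J → χ t = 1 := by
    intro t ht
    have h1 : (⨆ j : J, T ⊓ Cfsg.Agent.Nodes.FreeTorus.LL X (sr (j : I))) ≤ χ.ker.map T.subtype := by
      refine iSup_le fun j => ?_
      rintro s ⟨hs1, hs2⟩
      exact ⟨⟨s, hs1⟩, j.2.2 ⟨s, hs1⟩ hs2, rfl⟩
    obtain ⟨s, hs, e⟩ := h1 (T_inf_DJ R hn J ⟨t.2, ht⟩)
    have : s = t := Subtype.ext e
    rw [← this]
    exact hs
  obtain ⟨l, hl0, hl1, S, L, τ, m', hτ, hm⟩ := exists_irr (k := k) R hG hn hχ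
  have hl : l = lOf k K := by
    funext i
    unfold lOf
    by_cases hi : i ∈ K
    · rw [if_pos hi]
      exact hl1 i (fun h => h.1 hi) (hw i hi)
    · rw [if_neg hi]
      by_cases hi' : ∀ t : T, (t : Y) ∈ X (sr i) ⊔ X (-sr i) → χ t = 1
      · exact hl0 i ⟨hi, hi'⟩
      · exact (hm.cases R (hn i)).resolve_right fun h => hi' h.2
  rw [hl] at hm
  exact ⟨S, L, τ, m', hτ, hm⟩

variable [IsAlgClosed k]

/-- **The number of `p`-regular classes is the number of weights.** -/
theorem card_regular_eq [Finite (WtSet T X k)] (R : RGD cs h p T n X) (hG : GG cs h T X = ⊤)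
    (hn : ∀ i, n i ∈ X (sr i) ⊔ X (-sr i)) (hT : ∀ s ∈ T, ∀ t ∈ T, s * t = t * s) :
    Nat.card {c : ConjClasses Y // ∃ g, ConjClasses.mk g = c ∧ (orderOf g).Coprime p} = Nat.card (WtSet T X k) := by
  classical
  choose S L τ m hτ hm using fun w : WtSet T X k => exists_irr_weight R hG hn w
  have hfd : ∀ w, FiniteDimensional k (S w ⧸ L w) := fun w => inferInstance
  let τ' : ∀ w, Representation k Y (S w ⧸ L w) := τ
  let _ : ∀ w, AddCommGroup (τ' w).asModule := fun w => inferInstance
  let _ : ∀ w, Module (MonoidAlgebra k Y) (τ' w).asModule := fun w => inferInstance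
  have hs : ∀ w, IsSimpleModule (MonoidAlgebra k Y) (τ' w).asModule := fun w =>
    isSimpleModule_of_irr (τ' w) (hτ w)
  refine H135.BrauerCount.card_eq k p Y (WtSet T X k) (fun w => (τ' w).asModule) ?_ ?_
  · rintro w w' ⟨e⟩
    obtain ⟨f, hf⟩ := exists_equivariant (τ w) (τ w') e
    have h1 : Wt cs h n X (τ w') w.1.1 (lOf k w.1.2) (f (m w)) := (hm w).map f.toLinearMap hf
      (fun h0 => (hm w).ne (f.injective (by rw [map_zero]; exact h0)))
    obtain ⟨h2, h3⟩ := h1.unique R hG (hτ w') (hm w')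
    exact Subtype.ext (Prod.ext h2 (lOf_inj h3))
  · intro V _ _ _
    let _ : Module k V := Module.compHom V (algebraMap k (MonoidAlgebra k Y))
    have _ : IsScalarTower k (MonoidAlgebra k Y) V := ⟨fun c b m => by
      change (c • b) • m = (algebraMap k (MonoidAlgebra k Y) c) • b • m
      rw [smul_smul, Algebra.smul_def]⟩
    have _ : FiniteDimensional k V := by
      have h1 : Module.Finite (MonoidAlgebra k Y) V := inferInstance
      exact Module.Finite.trans (MonoidAlgebra k Y) V
    have hV : Irr (repOf k Y V) := irr_repOf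
    obtain ⟨χ, l, x, hx⟩ := exists_wt R hT hV
    let K : Set I := {i | l i = -1}
    have hl : l = lOf k K := by
      funext i
      unfold lOf
      by_cases hi : l i = -1
      · rw [if_pos (show i ∈ K from hi), hi]
      · rw [if_neg (show i ∉ K from hi)]
        exact (hx.cases R (hn i)).resolve_right fun h => hi h.1
    let w : WtSet T X k := ⟨(χ, K), fun i hi => by
      rcases hx.cases R (hn i) with h1 | h1
      · have h2 : l i = -1 := hi
        rw [h1, eq_comm, neg_eq_zero] at h2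
        exact absurd h2 one_ne_zero
      · exact h1.2⟩
    rw [hl] at hx
    obtain ⟨e, he⟩ := hx.exists_equiv R hG hV (hm w) (hτ w)
    exact ⟨w, exists_linearEquiv (τ w) e he⟩

end

section count

variable {I : Type*} {Y : Type v} [Fintype I] [DecidableEq I] [Group Y]
  {p : ℕ} {T : Subgroup Y} {X : (I → ℤ) → Subgroup Y} (k : Type u) [Field k]

theorem card_WtSet [Fact p.Prime] [CharP k p] [IsAlgClosed k] {C : Type*} [CommGroup C] [Finite C]
    (hC : (Nat.card C).Coprime p) (e : (I → C) ≃* T)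
    (he : ∀ i (t : T), (t : Y) ∈ X (sr i) ⊔ X (-sr i) ↔ ∃ c, t = e (Pi.mulSingle i c)) :
    Finite (WtSet T X k) ∧ Nat.card (WtSet T X k) = (Nat.card C + 1) ^ Fintype.card I := by
  classical
  have hne : NeZero ((Monoid.exponent C : ℕ) : k) := by
    refine ⟨fun h0 => ?_⟩
    rw [CharP.cast_eq_zero_iff k p] at h0
    have h1 : p ∣ Nat.card C := h0.trans Group.exponent_dvd_nat_card
    have h2 := Nat.dvd_gcd h1 dvd_rfl
    rw [hC] at h2
    exact (Fact.out : p.Prime).one_lt.ne' (Nat.dvd_one.1 h2)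
  have hcard : Nat.card (C →* kˣ) = Nat.card C := CommGroup.card_monoidHom_of_hasEnoughRootsOfUnity C k
  have hfin : Finite (C →* kˣ) := Nat.finite_of_card_ne_zero (by rw [hcard]; exact Nat.card_pos.ne')
  let r : WtSet T X k → ∀ i : I, C →* kˣ := fun w i =>
    w.1.1.comp (e.toMonoidHom.comp (MonoidHom.mulSingle (fun _ => C) i))
  have hr : ∀ w i c, r w i c = w.1.1 (e (Pi.mulSingle i c)) := fun _ _ _ => rfl
  let Φ : WtSet T X k → I → Option (C →* kˣ) := fun w i => if i ∈ w.1.2 then none else some (r w i)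
  have hΦ0 : ∀ w i, Φ w i = none ↔ i ∈ w.1.2 := by
    intro w i
    change (if i ∈ w.1.2 then none else some (r w i)) = none ↔ _
    by_cases hi : i ∈ w.1.2
    · rw [if_pos hi]; exact ⟨fun _ => hi, fun _ => rfl⟩
    · rw [if_neg hi]; exact ⟨fun h => absurd h (by simp), fun h => absurd h hi⟩
  have hΦ1 : ∀ w i, i ∉ w.1.2 → Φ w i = some (r w i) := fun w i hi => if_neg hi
  have hr1 : ∀ w i, i ∈ w.1.2 → r w i = 1 := by
    intro w i hi
    ext c
    rw [hr, w.2 i hi _ ((he i _).2 ⟨c, rfl⟩)]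
    rfl
  have hbij : Function.Bijective Φ := by
    constructor
    · intro w w' hww
      have hK : w.1.2 = w'.1.2 := by
        ext i
        rw [← hΦ0, ← hΦ0, hww]
      have h1 : ∀ i, r w i = r w' i := by
        intro i
        by_cases hi : i ∈ w.1.2
        · rw [hr1 w i hi, hr1 w' i (hK ▸ hi)]
        · have h2 := congrFun hww i
          change (if i ∈ w.1.2 then none else some (r w i)) = if i ∈ w'.1.2 then none else some (r w' i) at h2
          rw [if_neg hi, if_neg (hK ▸ hi)] at h2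
          exact Option.some_injective _ h2
      have h2 : w.1.1.comp e.toMonoidHom = w'.1.1.comp e.toMonoidHom := by
        refine MonoidHom.functions_ext' _ _ _ fun i => ?_
        exact h1 i
      refine Subtype.ext (Prod.ext ?_ hK)
      ext t
      obtain ⟨x, rfl⟩ := e.surjective t
      exact congrArg (fun z : kˣ => (z : k)) (DFunLike.congr_fun h2 x)
    · intro o
      let χ : T →* kˣ := (∏ j, ((o j).getD 1).comp (Pi.evalMonoidHom (fun _ => C) j)).comp e.symm.toMonoidHom
      have hχ : ∀ i c, χ (e (Pi.mulSingle i c)) = (o i).getD 1 c := by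
        intro i c
        change (∏ j, ((o j).getD 1).comp (Pi.evalMonoidHom (fun _ => C) j)) (e.symm (e (Pi.mulSingle i c))) = _
        rw [MulEquiv.symm_apply_apply, MonoidHom.finsetProd_apply, Finset.prod_eq_single i]
        · change (o i).getD 1 ((Pi.mulSingle i c : I → C) i) = _
          rw [Pi.mulSingle_eq_same]
        · intro j _ hj
          change (o j).getD 1 ((Pi.mulSingle i c : I → C) j) = 1
          rw [Pi.mulSingle_eq_of_ne hj, map_one]
        · intro h0
          exact absurd (Finset.mem_univ _) h0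
      let w : WtSet T X k := ⟨(χ, {i | o i = none}), fun i hi t ht => by
        obtain ⟨c, rfl⟩ := (he i t).1 ht
        change χ (e (Pi.mulSingle i c)) = 1
        rw [hχ, show o i = none from hi]
        rfl⟩
      refine ⟨w, funext fun i => ?_⟩
      by_cases hi : o i = none
      · rw [(hΦ0 w i).2 hi, hi]
      · rw [hΦ1 w i hi]
        obtain ⟨ψ, hψ⟩ := Option.ne_none_iff_exists'.1 hi
        rw [hψ]
        congr 1
        ext c
        rw [hr]
        change ((χ (e (Pi.mulSingle i c)) : kˣ) : k) = _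
        rw [hχ, hψ]
        rfl
  refine ⟨Finite.of_injective Φ hbij.1, ?_⟩
  rw [Nat.card_congr (Equiv.ofBijective Φ hbij), Nat.card_fun, Finite.card_option, hcard,
    Nat.card_eq_fintype_card (α := I)]

end count

section final

variable {I : Type*} {W : Type*} {Y : Type v} [Fintype I] [DecidableEq I] [Group W] [Group Y] [Finite Y]
  {M : CoxeterMatrix I}
  {cs : CoxeterSystem M W} {A : I → I → ℤ} {h : IsCartan M A} {p : ℕ} {T : Subgroup Y} {n : I → Y}
  {X : (I → ℤ) → Subgroup Y}

/-- **The number of `p`-regular classes** of a group with a root group datum of rank `l` whose torus is the direct product of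
the rank one tori `≅ C` is `(|C| + 1) ^ l`. -/
theorem card_regular_of_torus [Finite W] [Fact p.Prime] (R : RGD cs h p T n X) (hG : GG cs h T X = ⊤)
    (hn : ∀ i, n i ∈ X (sr i) ⊔ X (-sr i)) {C : Type*} [CommGroup C] [Finite C]
    (hC : (Nat.card C).Coprime p) (e : (I → C) ≃* T)
    (he : ∀ i (t : T), (t : Y) ∈ X (sr i) ⊔ X (-sr i) ↔ ∃ c, t = e (Pi.mulSingle i c)) :
    Nat.card {c : ConjClasses Y // ∃ g, ConjClasses.mk g = c ∧ (orderOf g).Coprime p} =
      (Nat.card C + 1) ^ Fintype.card I := by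
  have hT : ∀ s ∈ T, ∀ t ∈ T, s * t = t * s := by
    intro s hs t ht
    obtain ⟨x, hx⟩ := e.surjective ⟨s, hs⟩
    obtain ⟨y, hy⟩ := e.surjective ⟨t, ht⟩
    have h1 : (e x * e y : T) = e y * e x := by rw [← map_mul, mul_comm, map_mul]
    rw [hx, hy] at h1
    exact congrArg Subtype.val h1
  obtain ⟨h1, h2⟩ := card_WtSet (X := X) (AlgebraicClosure (ZMod p)) hC e he
  rw [card_regular_eq (k := AlgebraicClosure (ZMod p)) R hG hn hT, h2]

end final

end Cfsg.Agent.H945
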