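import Mathlib
import Cfsg.Agent.H168.GLFour
import Cfsg.Agent.S0243
import Cfsg.Agent.S2468
import Cfsg.Agent.H346.LNOrd

/-!
# Orders in `PSL(n, 2)` (helper945)

* `orderOf_le` : element orders are at most `2 ^ n - 1`;
* `no_sixteen` : no element of order 16 for `n ≤ 8`;
* `prod_card`, `dvd_card_iff` : the primes dividing the order.
-/

set_option autoImplicit false

namespace Cfsg.Agent.H945.LNOrd

open Polynomial Matrix

variable {F : Type*} [Field F] [Fintype F]

theorem orderOf_le {n : ℕ} (hn : 0 < n) (hF : Fintype.card F = 2) (x : ProjectiveSpecialLinearGroup (Fin n) F) :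
    orderOf x ≤ 2 ^ n - 1 := by
  obtain ⟨e⟩ := H168.psl_equiv_gl hF n
  have h1 := H346.LNOrd.orderOf_le hF hn.ne' (e x)
  rwa [MulEquiv.orderOf_eq] at h1

/-- 2-elements have order at most 8 in dimension at most 8. -/
theorem no_sixteen {n : ℕ} (hn : n ≤ 8) (hF : Fintype.card F = 2) (x : ProjectiveSpecialLinearGroup (Fin n) F) :
    orderOf x ≠ 16 := by
  classical
  intro hx
  obtain ⟨e⟩ := H168.psl_equiv_gl hF n
  set A := e x with hA
  have hoA : orderOf A = 16 := by rw [hA, MulEquiv.orderOf_eq, hx]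
  set M : Matrix (Fin n) (Fin n) F := (A : Matrix (Fin n) (Fin n) F) with hM
  have h2 : CharP F 2 := by
    obtain ⟨p, hp⟩ := CharP.exists F
    obtain ⟨k, hk, hc⟩ := FiniteField.card F p
    have h1 : p ∣ 2 := by
      rw [← hF, hc]
      exact dvd_pow_self p k.ne_zero
    rwa [(Nat.prime_dvd_prime_iff_eq hk Nat.prime_two).1 h1] at hp
  rcases Nat.eq_zero_or_pos n with h0 | hpos
  · subst h0
    have : A = 1 := Subsingleton.elim _ _
    rw [this, orderOf_one] at hoA
    norm_num at hoA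
  have hne : Nonempty (Fin n) := ⟨⟨0, hpos⟩⟩
  have hc2 : CharP (Matrix (Fin n) (Fin n) F) 2 := inferInstance
  have hp2 : Fact (Nat.Prime 2) := ⟨Nat.prime_two⟩
  have h16 : M ^ 16 = 1 := by
    rw [hM, ← Units.val_pow_eq_pow_val, ← hoA, pow_orderOf_eq_one, Units.val_one]
  have key : ∀ k : ℕ, (M - 1) ^ 2 ^ k = M ^ 2 ^ k - 1 := by
    intro k
    rw [sub_pow_char_pow_of_commute 2 k (Commute.one_right M), one_pow]
  have hnil : (M - 1) ^ 16 = 0 := by
    have := key 4
    norm_num at this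
    rw [this, h16, sub_self]
  have hnil2 : IsNilpotent (M - 1) := ⟨16, hnil⟩
  have hcp : (M - 1).charpoly = X ^ n := by
    have h3 := (Matrix.isNilpotent_charpoly_sub_pow_of_isNilpotent hnil2)
    rw [isNilpotent_iff_eq_zero, sub_eq_zero, Fintype.card_fin] at h3
    exact h3
  have hn0 : (M - 1) ^ n = 0 := by
    have h3 := Matrix.aeval_self_charpoly (M - 1)
    rw [hcp, map_pow, aeval_X] at h3
    exact h3
  have h8 : (M - 1) ^ 8 = 0 := by
    rw [show (8 : ℕ) = n + (8 - n) by omega, pow_add, hn0, zero_mul]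
  have h9 : M ^ 8 = 1 := by
    have := key 3
    norm_num at this
    rw [h8] at this
    exact (sub_eq_zero.1 this.symm)
  have h10 : A ^ 8 = 1 := by
    apply Units.ext
    rw [Units.val_pow_eq_pow_val, ← hM, h9, Units.val_one]
  have h11 := orderOf_dvd_of_pow_eq_one h10
  rw [hoA] at h11
  norm_num at h11

/-- the order of `PSL(n, 2)` -/
theorem card_eq {n : ℕ} (hn : 2 ≤ n) (hF : Fintype.card F = 2) :
    Nat.card (ProjectiveSpecialLinearGroup (Fin n) F) = ∏ i : Fin n, (2 ^ n - 2 ^ (i : ℕ)) := by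
  have h1 := Cfsg.Agent.S0243.result (F := F) hF n hn
  norm_num at h1
  exact h1

theorem dvd_card {n k r : ℕ} (hn : 2 ≤ n) (hF : Fintype.card F = 2) (hr : r.Prime) (_hr2 : r ≠ 2)
    (hk : orderOf (2 : ZMod r) = k) (hkn : k ≤ n) (hk1 : 1 ≤ k) :
    r ∣ Nat.card (ProjectiveSpecialLinearGroup (Fin n) F) := by
  rw [card_eq hn hF]
  have h2 : 2 ^ n - 2 ^ (n - k) = 2 ^ (n - k) * (2 ^ k - 1) := by
    rw [Nat.mul_sub, mul_one, ← pow_add, Nat.sub_add_cancel hkn]
  have h3 : r ∣ 2 ^ k - 1 := by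
    have : Fact r.Prime := ⟨hr⟩
    rw [← ZMod.natCast_eq_zero_iff, Nat.cast_sub Nat.one_le_two_pow, Nat.cast_pow, Nat.cast_ofNat, Nat.cast_one, ← hk,
      pow_orderOf_eq_one, sub_self]
  have h4 : r ∣ 2 ^ n - 2 ^ (((⟨n - k, by omega⟩ : Fin n) : ℕ)) := by
    rw [Fin.val_mk, h2]
    exact h3.mul_left _
  exact h4.trans (Finset.dvd_prod_of_mem _ (Finset.mem_univ _))

/-- primes dividing the order of `PSL(n, 2)` divide `2 (2² - 1) ⋯ (2ⁿ - 1)` -/
theorem dvd_prod {n r : ℕ} (hn : 2 ≤ n) (hF : Fintype.card F = 2) (hr : r.Prime)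
    (hd : r ∣ Nat.card (ProjectiveSpecialLinearGroup (Fin n) F)) :
    r ∣ 2 * ∏ i ∈ Finset.range n, (2 ^ (i + 1) - 1) := by
  rw [card_eq hn hF] at hd
  obtain ⟨i, -, hi⟩ := (hr.prime.dvd_finsetProd_iff _).1 hd
  have h2 : 2 ^ n - 2 ^ (i : ℕ) = 2 ^ (i : ℕ) * (2 ^ (n - i) - 1) := by
    rw [Nat.mul_sub, mul_one, ← pow_add, Nat.add_sub_cancel' i.2.le]
  rw [h2] at hi
  rcases hr.dvd_mul.1 hi with h | h
  · exact (hr.dvd_of_dvd_pow h).mul_right _
  · refine Dvd.dvd.mul_left ?_ _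
    have h3 : n - i - 1 ∈ Finset.range n := by
      rw [Finset.mem_range]
      omega
    have h4 : n - i = (n - i - 1) + 1 := by have := i.2; omega
    rw [h4] at h
    exact h.trans (Finset.dvd_prod_of_mem _ h3)

theorem two_zmod_two : (2 : ZMod 2) = 0 := by decide

theorem ne_two_of_ord {t m : ℕ} (ht : orderOf (2 : ZMod t) = m) (hm : 2 ≤ m) : t ≠ 2 := by
  intro h
  rw [h, two_zmod_two, orderOf_zero] at ht
  omega

/-- nonadjacent primes -/
theorem nonadj {n k l r s : ℕ} (hn : 3 ≤ n) (hF : Fintype.card F = 2) (hr : r.Prime) (hs : s.Prime)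
    (hk : orderOf (2 : ZMod r) = k) (hl : orderOf (2 : ZMod s) = l) (hk2 : 2 ≤ k) (hkl : k < l) (hln : l ≤ n)
    (hsum : n < k + l) (hnd : ¬ k ∣ l) :
    ¬ ∃ g : ProjectiveSpecialLinearGroup (Fin n) F, orderOf g = r * s := by
  have h2 : CharP F 2 := H346.LNOrd.charP_two hF
  have hf2 : Fact (Nat.Prime 2) := ⟨Nat.prime_two⟩
  have hne : ∀ {t m : ℕ}, orderOf (2 : ZMod t) = m → 2 ≤ m → t ≠ 2 := ne_two_of_ord
  have hr2 := hne hk hk2
  have hs2 := hne hl (by omega)
  have hrs : r ≠ s := by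
    rintro rfl
    omega
  have h3 := (S2468.result (F := F) 2 n (by omega) (by omega) r s hr hs hr2 hs2 hr2 hs2 hrs
    (dvd_card (by omega) hF hr hr2 hk (by omega) (by omega)) (dvd_card (by omega) hF hs hs2 hl hln (by omega)) k l
    (by rw [hF, Nat.cast_ofNat, hk]) (by rw [hF, Nat.cast_ofNat, hl]) hk2 hkl.le).2 ⟨hsum, hnd⟩
  exact h3

/-! ### numbers -/

/-- A number whose prime divisors divide `N`. -/
theorem dvd_pow_of_primes {a N m : ℕ} (ha : a ≠ 0) (hN : N ≠ 0) (h : ∀ p : ℕ, p.Prime → p ∣ a → p ∣ N) (hm : a < 2 ^ m) :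
    a ∣ N ^ m := by
  rw [← Nat.factorization_le_iff_dvd ha (pow_ne_zero m hN)]
  intro p
  rw [Nat.factorization_pow, Finsupp.smul_apply, smul_eq_mul]
  by_cases hp : p.Prime
  · by_cases hd : p ∣ a
    · have h1 : 1 ≤ N.factorization p := hp.factorization_pos_of_dvd hN (h p hp hd)
      have h2 : a.factorization p < m := by
        by_contra hcon
        push Not at hcon
        have h3 : 2 ^ m ≤ p ^ a.factorization p :=
          (Nat.pow_le_pow_left hp.two_le m).trans (Nat.pow_le_pow_right hp.pos hcon)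
        have h4 := Nat.le_of_dvd (Nat.pos_of_ne_zero ha) (Nat.ordProj_dvd a p)
        omega
      nlinarith
    · rw [Nat.factorization_eq_zero_of_not_dvd hd]
      exact Nat.zero_le _
  · rw [Nat.factorization_eq_zero_of_not_prime a hp]
    exact Nat.zero_le _

/-- the check: `u` is odd, at least 3, not larger than the bound, two of the three primes divide `u (u ^ 2 - 1)`, which
divides a power of `N` -/
def tst (N a b c : ℕ) (u : ℕ) : Bool :=
  let w := u * (u * u - 1)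
  ((Nat.beq (w % a) 0 && Nat.beq (w % b) 0) || (Nat.beq (w % a) 0 && Nat.beq (w % c) 0) ||
    (Nat.beq (w % b) 0 && Nat.beq (w % c) 0)) && Nat.beq (N ^ 34 % w) 0

def cands (N a b c B : ℕ) : List ℕ := ((List.range B).map fun i => 2 * i + 3).filter (tst N a b c)

/-- the product -/
def NN (n : ℕ) : ℕ := 2 * ((List.range n).map fun i => 2 ^ (i + 1) - 1).prod

theorem NN_eq (n : ℕ) : NN n = 2 * ∏ i ∈ Finset.range n, (2 ^ (i + 1) - 1) := rfl

end Cfsg.Agent.H945.LNOrd
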