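import Cfsg.Agent.H945.Exist

/-!
# Irreducible representations with a given weight, helper945

* `exists_irr_of_wt` : a weight vector in a finite dimensional representation gives an irreducible representation with the
  same weight;
* `exists_irr` : for `J` and `χ` trivial on `T ∩ ⟨X x : x ∈ RootsJ J⟩` there is an irreducible representation of weight
  `(χ, l)`, `l i = 0` for `i ∈ J`, `l i = -1` for `i ∉ J` if `χ` is trivial on `T ∩ ⟨X_i, X_{-i}⟩`.
-/

set_option autoImplicit false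
set_option linter.unusedSectionVars false

namespace Cfsg.Agent.H945

open CoxeterSystem Cfsg.Agent.ChevalleyStructure.CoxeterGeom Cfsg.Agent.Tits.Roots Cfsg.Agent.Tits.Core
  Cfsg.Agent.Tits.Exchange Cfsg.Agent.Nodes.Reps Cfsg.Agent.Nodes.BNOf Cfsg.Agent.Nodes.StabComb
  Cfsg.Agent.Nodes.Bruhat Cfsg.Agent.Nodes.OppDec Cfsg.Agent.Nodes.LeviDec Cfsg.Agent.KFacts.RgdOpp
open Cfsg.Agent.Omega.CR

section

variable {I W Y : Type*} [Fintype I] [DecidableEq I] [Group W] [Group Y] [Finite Y] {M : CoxeterMatrix I}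
  {cs : CoxeterSystem M W} {A : I → I → ℤ} {h : IsCartan M A} {p : ℕ} {T : Subgroup Y} {n : I → Y}
  {X : (I → ℤ) → Subgroup Y}
  {k V V' : Type*} [Field k] [AddCommGroup V] [Module k V] [AddCommGroup V'] [Module k V']
  {ρ : Y →* Module.End k V} {ρ' : Y →* Module.End k V'}

theorem map_sg (f : V →ₗ[k] V') (hf : ∀ g v, f (ρ g v) = ρ' g (f v)) (B : Subgroup Y) (v : V) :
    f (sg ρ B v) = sg ρ' B (f v) := by
  classical
  let _ := Fintype.ofFinite B
  rw [sg_def, sg_def, map_sum]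
  exact Finset.sum_congr rfl fun a _ => hf _ _

theorem map_Ti (f : V →ₗ[k] V') (hf : ∀ g v, f (ρ g v) = ρ' g (f v)) (i : I) (v : V) :
    f (Ti n X ρ i v) = Ti n X ρ' i (f v) := by
  rw [Ti_apply, Ti_apply, map_sg f hf, hf]

variable {χ : T →* kˣ} {l : I → k}

/-- the image of a weight vector -/
theorem Wt.map {m : V} (hm : Wt cs h n X ρ χ l m) (f : V →ₗ[k] V') (hf : ∀ g v, f (ρ g v) = ρ' g (f v))
    (h0 : f m ≠ 0) : Wt cs h n X ρ' χ l (f m) where
  ne := h0
  fix u hu := by rw [← hf, hm.fix u hu]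
  tor t := by rw [← hf, hm.tor t, map_smul]
  ti i := by rw [← map_Ti f hf, hm.ti i, map_smul]

/-- the preimage of a weight vector -/
theorem Wt.of_map {m : V} (f : V →ₗ[k] V') (hf : ∀ g v, f (ρ g v) = ρ' g (f v)) (hinj : Function.Injective f)
    (hm : Wt cs h n X ρ' χ l (f m)) : Wt cs h n X ρ χ l m where
  ne h0 := hm.ne (by rw [h0, map_zero])
  fix u hu := hinj (by rw [hf, hm.fix u hu])
  tor t := hinj (by rw [hf, hm.tor t, map_smul])
  ti i := hinj (by rw [map_Ti f hf, hm.ti i, map_smul])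

omit [Finite Y] in
/-- restriction to an invariant subspace -/
def subRep (ρ : Y →* Module.End k V) (S : Submodule k V) (hS : ∀ g, ∀ v ∈ S, ρ g v ∈ S) : Y →* Module.End k S where
  toFun g := (ρ g).restrict (hS g)
  map_one' := LinearMap.ext fun _ => Subtype.ext (rho_one ρ _)
  map_mul' _ _ := LinearMap.ext fun _ => Subtype.ext (rho_mul ρ _ _ _)

omit [Finite Y] in
/-- the quotient representation -/
def quotRep (ρ : Y →* Module.End k V) (S : Submodule k V) (hS : ∀ g, ∀ v ∈ S, ρ g v ∈ S) :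
    Y →* Module.End k (V ⧸ S) where
  toFun g := S.mapQ S (ρ g) (fun v hv => hS g v hv)
  map_one' := by
    refine LinearMap.ext fun v => ?_
    induction v using Submodule.Quotient.induction_on with
    | H v => rw [Submodule.mapQ_apply, rho_one]; rfl
  map_mul' a b := by
    refine LinearMap.ext fun v => ?_
    induction v using Submodule.Quotient.induction_on with
    | H v => rw [Submodule.mapQ_apply, rho_mul]; rfl

/-- **A weight vector gives an irreducible representation with the same weight.** -/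
theorem exists_irr_of_wt {k : Type*} {V : Type*} [Field k] [AddCommGroup V] [Module k V]
    {ρ : Y →* Module.End k V} [FiniteDimensional k V] {χ : T →* kˣ} {l : I → k} {m : V}
    (hm : Wt cs h n X ρ χ l m) :
    ∃ (S : Submodule k V) (L : Submodule k S) (τ : Y →* Module.End k (S ⧸ L)) (m' : S ⧸ L), Irr τ ∧
      Wt cs h n X τ χ l m' := by
  classical
  let S : Submodule k V := Submodule.span k (Set.range fun g => ρ g m)
  have hS : ∀ g, ∀ v ∈ S, ρ g v ∈ S := by
    intro g v hv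
    induction hv using Submodule.span_induction with
    | mem x hx =>
      obtain ⟨b, rfl⟩ := hx
      change ρ g (ρ b m) ∈ S
      rw [← rho_mul]
      exact Submodule.subset_span ⟨_, rfl⟩
    | zero => rw [map_zero]; exact zero_mem _
    | add x y _ _ hx hy => rw [map_add]; exact add_mem hx hy
    | smul c x _ hx => rw [map_smul]; exact S.smul_mem c hx
  let σ := subRep ρ S hS
  have hσ : ∀ g (v : S), ((σ g v : S) : V) = ρ g v := fun _ _ => rfl
  have hmS : m ∈ S := Submodule.subset_span ⟨1, rho_one ρ m⟩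
  let m0 : S := ⟨m, hmS⟩
  have hm0 : Wt cs h n X σ χ l m0 := Wt.of_map S.subtype (fun g v => rfl) S.injective_subtype hm
  -- `S` is generated by `m0`
  have hgen : ∀ L : Submodule k S, (∀ g, ∀ v ∈ L, σ g v ∈ L) → m0 ∈ L → L = ⊤ := by
    intro L hL h1
    rw [eq_top_iff]
    rintro ⟨v, hv⟩ -
    have h2 : S ≤ L.map S.subtype := by
      refine Submodule.span_le.2 ?_
      rintro _ ⟨g, rfl⟩
      exact ⟨σ g m0, hL g m0 h1, rfl⟩
    obtain ⟨x, hx, e⟩ := h2 hv
    have : x = ⟨v, hv⟩ := Subtype.ext e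
    rwa [this] at hx
  -- a maximal invariant subspace without `m0`
  obtain ⟨L, ⟨hL, hmL⟩, hmax⟩ := (wellFounded_gt (α := Submodule k S)).has_min
    {L : Submodule k S | (∀ g, ∀ v ∈ L, σ g v ∈ L) ∧ m0 ∉ L}
    ⟨⊥, fun g v hv => by rw [Submodule.mem_bot] at hv ⊢; rw [hv, map_zero], fun h0 => hm0.ne h0⟩
  let τ := quotRep σ L hL
  have hτ : ∀ g (v : S), L.mkQ (σ g v) = τ g (L.mkQ v) := fun _ _ => rfl
  have hne : L.mkQ m0 ≠ 0 := by
    intro h0
    rw [Submodule.mkQ_apply, Submodule.Quotient.mk_eq_zero] at h0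
    exact hmL h0
  refine ⟨S, L, τ, L.mkQ m0, ⟨nontrivial_of_ne _ _ hne, ?_⟩, hm0.map L.mkQ hτ hne⟩
  intro L' hL'
  have h1 : ∀ g, ∀ v ∈ L'.comap L.mkQ, σ g v ∈ L'.comap L.mkQ := by
    intro g v hv
    change L.mkQ (σ g v) ∈ L'
    rw [hτ]
    exact hL' g _ hv
  have h2 : L ≤ L'.comap L.mkQ := by
    intro v hv
    change L.mkQ v ∈ L'
    rw [Submodule.mkQ_apply, (Submodule.Quotient.mk_eq_zero L).2 hv]
    exact zero_mem _
  have hsurj : Function.Surjective L.mkQ := L.mkQ_surjective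
  by_cases h3 : m0 ∈ L'.comap L.mkQ
  · right
    have h4 := hgen _ h1 h3
    rw [eq_top_iff]
    intro x _
    obtain ⟨v, rfl⟩ := hsurj x
    have : v ∈ L'.comap L.mkQ := by rw [h4]; trivial
    exact this
  · left
    have h4 : L = L'.comap L.mkQ := by
      by_contra h5
      exact hmax _ ⟨h1, h3⟩ (lt_of_le_of_ne h2 h5)
    rw [eq_bot_iff]
    intro x hx
    obtain ⟨v, rfl⟩ := hsurj x
    have : v ∈ L := by rw [h4]; exact hx
    rw [Submodule.mem_bot, Submodule.mkQ_apply, (Submodule.Quotient.mk_eq_zero L).2 this]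

/-- **Existence of irreducible representations.** -/
theorem exists_irr {k : Type*} [Field k] [Finite W] [Fact p.Prime] [CharP k p] (R : RGD cs h p T n X)
    (hG : GG cs h T X = ⊤) (hn : ∀ i, n i ∈ X (sr i) ⊔ X (-sr i)) {J : Set I} {χ : T →* kˣ}
    (hχ : ∀ t : T, (t : Y) ∈ DJ cs h X J → χ t = 1) :
    ∃ (l : I → k), (∀ i ∈ J, l i = 0) ∧
      (∀ i ∉ J, (∀ t : T, (t : Y) ∈ X (sr i) ⊔ X (-sr i) → χ t = 1) → l i = -1) ∧
      ∃ (S : Submodule k (Y → k)) (L : Submodule k S) (τ : Y →* Module.End k (S ⧸ L)) (m' : S ⧸ L), Irr τ ∧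
      Wt cs h n X τ χ l m' := by
  classical
  obtain ⟨g₀, hg₀⟩ := exists_rp cs R.nsys (w0 cs)
  let f : Y → k := fJ cs h X J g₀ χ
  have h1 : ∀ i, ∃ c : k, Ti n X (lft Y k) i f = c • f ∧ (i ∈ J → c = 0) ∧
      (i ∉ J → (∀ t : T, (t : Y) ∈ X (sr i) ⊔ X (-sr i) → χ t = 1) → c = -1) := by
    intro i
    by_cases hi : i ∈ J
    · refine ⟨0, ?_, fun _ => rfl, fun h => absurd hi h⟩
      rw [zero_smul]
      refine fJ_Ti_of_mem R hχ (?_ : n i ∈ DJ cs h X J)
      have h2 : X (sr i) ⊔ X (-sr i) ≤ DJ cs h X J :=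
        sup_le (RGD.le_Sup (S := RootsJ cs h J) (PosJ_subset J (sr_mem_PosJ hi)))
          (RGD.le_Sup (S := RootsJ cs h J) (RootsJ.neg (PosJ_subset J (sr_mem_PosJ hi))))
      exact h2 (hn i)
    · obtain ⟨c, hc, hc'⟩ := fJ_Ti_not_mem (k := k) R hG hχ hg₀ hi
      exact ⟨c, hc, fun h => absurd h hi, fun _ => hc' (hn i)⟩
  choose l hl hl0 hl1 using h1
  refine ⟨l, hl0, hl1, exists_irr_of_wt (ρ := lft Y k) (m := f) ⟨?_, ?_, ?_, hl⟩⟩
  · intro h0
    have h2 := congrFun h0 g₀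
    have h3 := fJ_apply (k := k) R hχ (g₀ := g₀) (t := 1) (one_mem (OJ cs h X J))
      (one_mem (RGD.Sup X (RGD.Pos cs h)))
    have e : ((1 : T) : Y) * 1 * g₀ * 1 = g₀ := by simp
    rw [e] at h3
    have h4 : f g₀ = (((χ 1)⁻¹ : kˣ) : k) := h3
    rw [h2] at h4
    exact Units.ne_zero _ h4.symm
  · intro u hu
    funext z
    rw [lft_apply]
    exact fJ_left R hχ (U_le_OJ J (inv_mem hu))
  · intro t
    funext z
    rw [lft_apply]
    have := fJ_T (k := k) R hχ (g₀ := g₀) (x := z) t⁻¹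
    rw [map_inv, inv_inv, Subgroup.coe_inv] at this
    exact this

end

end Cfsg.Agent.H945
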