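import Cfsg.Agent.Mrg.Omega.Lie.End.KSideMain

/-!
# Weights of simple modules of groups with a root group datum (Curtis–Richen), helper945

`R : RGD cs h p T n X` a root group datum in the finite group `Y = GG`, `k` a field of characteristic `p`.

* `Wt` : `m` is an eigenvector of `U` (trivially), `T` (character `χ`) and all Hecke operators `T_i` (scalars `l i`);
* `exists_wt` : an irreducible representation over an algebraically closed field has one (`T` commutative);
* `Wt.unique` : in an irreducible representation the weight is unique;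
* `Wt.exists_equiv` : two irreducible representations with the same weight are isomorphic.
-/

set_option autoImplicit false
set_option linter.unusedSectionVars false

namespace Cfsg.Agent.H945

open CoxeterSystem Cfsg.Agent.ChevalleyStructure.CoxeterGeom Cfsg.Agent.Tits.Roots Cfsg.Agent.Tits.Core
  Cfsg.Agent.Tits.Exchange Cfsg.Agent.Nodes.Reps Cfsg.Agent.Nodes.BNOf Cfsg.Agent.Nodes.StabComb
  Cfsg.Agent.Nodes.Bruhat Cfsg.Agent.Nodes.OppDec Cfsg.Agent.Nodes.LeviDec Cfsg.Agent.KFacts.RgdOpp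
open Cfsg.Agent.Omega.CR

section

variable {I W Y : Type*} [Fintype I] [DecidableEq I] [Group W] [Group Y] {M : CoxeterMatrix I}
  {cs : CoxeterSystem M W} {A : I → I → ℤ} {h : IsCartan M A} {p : ℕ} {T : Subgroup Y} {n : I → Y}
  {X : (I → ℤ) → Subgroup Y}

/-- the family with one member -/
theorem fam (R : RGD cs h p T n X) : Fam (κ := Unit) (fun _ => cs) (fun _ => h) p T (fun _ => n) (fun _ => X)
    (fun _ => (⊤ : Subgroup Y)) where
  rgd _ := R
  X_le _ _ _ := le_top
  n_mem _ _ := Subgroup.mem_top _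
  comm l m hlm := absurd (Subsingleton.elim l m) hlm

theorem Ut_unit : Ut (κ := Unit) (fun _ => cs) (fun _ => h) (fun _ => X) = RGD.Sup X (RGD.Pos cs h) := by
  unfold Ut
  exact iSup_const

theorem UNt_unit : UNt (κ := Unit) (fun _ => cs) (fun _ => h) (fun _ => X) = UN cs h X := by
  unfold UNt
  exact iSup_const

theorem GGt_unit : GGt (κ := Unit) (fun _ => cs) (fun _ => h) T (fun _ => X) = GG cs h T X := by
  unfold GGt
  rw [iSup_const]
  exact sup_eq_right.2 T_le_GG

variable (R : RGD cs h p T n X)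
variable {k V : Type*} [Field k] [AddCommGroup V] [Module k V] (ρ : Y →* Module.End k V)

/-- irreducibility -/
def Irr (ρ : Y →* Module.End k V) : Prop := Nontrivial V ∧ ∀ L : Submodule k V, (∀ g : Y, ∀ v ∈ L, ρ g v ∈ L) → L = ⊥ ∨ L = ⊤

variable [Finite Y]

/-- a weight vector -/
structure Wt (cs : CoxeterSystem M W) (h : IsCartan M A) (n : I → Y) (X : (I → ℤ) → Subgroup Y)
    (ρ : Y →* Module.End k V) (χ : T →* kˣ) (l : I → k) (m : V) : Prop where
  ne : m ≠ 0
  fix : m ∈ fx ρ (RGD.Sup X (RGD.Pos cs h))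
  tor : ∀ t : T, ρ (t : Y) m = (χ t : k) • m
  ti : ∀ i, Ti n X ρ i m = l i • m

variable {ρ}

omit [Finite Y] in
theorem Irr.ivt (hρ : Irr ρ) (hG : GG cs h T X = ⊤) (L : Submodule k V)
    (hL : Ivt ρ (GGt (κ := Unit) (fun _ => cs) (fun _ => h) T (fun _ => X)) L) : L = ⊥ ∨ L = ⊤ :=
  hρ.2 L fun g v hv => hL g (by rw [GGt_unit, hG]; exact Subgroup.mem_top _) v hv

section wt

variable {χ : T →* kˣ} {l : I → k} {m : V}

theorem Wt.line_inv (hm : Wt cs h n X ρ χ l m) : Ivt ρ T (k ∙ m) := by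
  intro t ht v hv
  obtain ⟨c, rfl⟩ := Submodule.mem_span_singleton.1 hv
  rw [map_smul, hm.tor ⟨t, ht⟩]
  exact Submodule.smul_mem _ _ (Submodule.smul_mem _ _ (Submodule.mem_span_singleton_self m))

theorem Wt.line_simp (hm : Wt cs h n X ρ χ l m) : Simp ρ T (k ∙ m) where
  ne := by
    rw [Ne, Submodule.span_singleton_eq_bot]
    exact hm.ne
  inv := hm.line_inv
  simple := by
    intro L hL _
    by_cases h0 : L = ⊥
    · exact Or.inl h0
    · right
      obtain ⟨v, hv, hv0⟩ := (Submodule.ne_bot_iff L).1 h0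
      obtain ⟨c, rfl⟩ := Submodule.mem_span_singleton.1 (hL hv)
      have hc : c ≠ 0 := by
        rintro rfl
        exact hv0 (zero_smul _ _)
      refine le_antisymm hL ?_
      rw [Submodule.span_singleton_le_iff_mem]
      have := L.smul_mem c⁻¹ hv
      rwa [smul_smul, inv_mul_cancel₀ hc, one_smul] at this

theorem Wt.line_le (hm : Wt cs h n X ρ χ l m) : (k ∙ m) ≤ fx ρ (RGD.Sup X (RGD.Pos cs h)) := by
  rw [Submodule.span_singleton_le_iff_mem]
  exact hm.fix

theorem Wt.line_ti (hm : Wt cs h n X ρ χ l m) (i : I) : ∀ v ∈ (k ∙ m), Ti n X ρ i v ∈ (k ∙ m) := by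
  intro v hv
  obtain ⟨c, rfl⟩ := Submodule.mem_span_singleton.1 hv
  rw [map_smul, hm.ti i]
  exact Submodule.smul_mem _ _ (Submodule.smul_mem _ _ (Submodule.mem_span_singleton_self m))

/-- the line of a weight vector is good -/
theorem Wt.good (R : RGD cs h p T n X) (hm : Wt cs h n X ρ χ l m) : Fam.Good (fam R) ρ Finset.univ (k ∙ m) where
  simp := hm.line_simp
  fix := by rw [Ut_unit]; exact hm.line_le
  st _ _ i v hv := hm.line_ti i v hv

/-- **`k[U⁻] m` is invariant** -/
theorem Wt.stable [Finite W] (R : RGD cs h p T n X) (hG : GG cs h T X = ⊤) (hm : Wt cs h n X ρ χ l m) (g : Y) {v : V}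
    (hv : v ∈ Sp ρ (UN cs h X) (k ∙ m)) : ρ g v ∈ Sp ρ (UN cs h X) (k ∙ m) := by
  have h1 := (hm.good R).stable
  rw [GGt_unit, UNt_unit, hG] at h1
  exact (h1 (Subgroup.mem_top g) v).1 hv

/-- **`V = k[U⁻] m`** -/
theorem Wt.gen [Finite W] (R : RGD cs h p T n X) (hG : GG cs h T X = ⊤) (hm : Wt cs h n X ρ χ l m) (hρ : Irr ρ) :
    Sp ρ (UN cs h X) (k ∙ m) = ⊤ := by
  refine (hρ.2 _ fun g v hv => hm.stable R hG g hv).resolve_left fun h0 => hm.ne ?_
  have h1 : m ∈ Sp ρ (UN cs h X) (k ∙ m) := le_Sp ρ (Submodule.mem_span_singleton_self m)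
  rw [h0] at h1
  exact h1

variable [Fact p.Prime] [CharP k p] [FiniteDimensional k V]

/-- the `U`-fixed vectors are the line of `m` -/
theorem Wt.fx_eq [Finite W] (R : RGD cs h p T n X) (hG : GG cs h T X = ⊤) (hm : Wt cs h n X ρ χ l m) (hρ : Irr ρ) :
    fx ρ (RGD.Sup X (RGD.Pos cs h)) = k ∙ m := by
  have hnt := hρ.1
  have h1 := ((fam R).eq_fx ρ (hρ.ivt hG) (hm.good R)).1
  rw [Ut_unit] at h1
  exact h1.symm

/-- **The weight of an irreducible representation is unique.** -/
theorem Wt.unique [Finite W] (R : RGD cs h p T n X) (hG : GG cs h T X = ⊤) (hm : Wt cs h n X ρ χ l m) (hρ : Irr ρ)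
    {χ' : T →* kˣ} {l' : I → k} {m' : V} (hm' : Wt cs h n X ρ χ' l' m') : χ = χ' ∧ l = l' := by
  have h1 : m' ∈ k ∙ m := by
    rw [← hm.fx_eq R hG hρ]
    exact hm'.fix
  obtain ⟨c, hc⟩ := Submodule.mem_span_singleton.1 h1
  have hc0 : c ≠ 0 := by
    rintro rfl
    exact hm'.ne (by rw [← hc, zero_smul])
  constructor
  · ext t
    have h2 := hm'.tor t
    rw [← hc, map_smul, hm.tor, smul_comm] at h2
    have h3 := sub_eq_zero.2 h2
    rw [← sub_smul, smul_smul] at h3
    have h4 := (smul_eq_zero.1 h3).resolve_right hm.ne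
    exact sub_eq_zero.1 ((mul_eq_zero.1 h4).resolve_right hc0)
  · funext i
    have h2 := hm'.ti i
    rw [← hc, map_smul, hm.ti, smul_comm] at h2
    have h3 := sub_eq_zero.2 h2
    rw [← sub_smul, smul_smul] at h3
    have h4 := (smul_eq_zero.1 h3).resolve_right hm.ne
    exact sub_eq_zero.1 ((mul_eq_zero.1 h4).resolve_right hc0)

/-- a functional fixed by `U⁻`, nonzero on `m` -/
theorem Wt.exists_functional [Finite W] (R : RGD cs h p T n X) (hG : GG cs h T X = ⊤) (hm : Wt cs h n X ρ χ l m)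
    (hρ : Irr ρ) : ∃ φ : Module.Dual k V, (∀ u ∈ UN cs h X, ∀ v, φ (ρ u v) = φ v) ∧ φ m ≠ 0 := by
  have hnt := hρ.1
  have h1 := ((fam R).eq_fx ρ (hρ.ivt hG) (hm.good R)).2 m (by rw [Ut_unit]; exact hm.fix) hm.ne
  obtain ⟨φ, hφ, h0⟩ := h1
  rw [UNt_unit, mem_fx_dual] at hφ
  exact ⟨φ, hφ, h0⟩

end wt

/-! ### existence of weights -/

theorem exists_wt [Finite W] [Fact p.Prime] [CharP k p] [FiniteDimensional k V] [IsAlgClosed k]
    (R : RGD cs h p T n X) (hT : ∀ s ∈ T, ∀ t ∈ T, s * t = t * s) (hρ : Irr ρ) :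
    ∃ (χ : T →* kˣ) (l : I → k) (m : V), Wt cs h n X ρ χ l m := by
  classical
  have hnt := hρ.1
  obtain ⟨N, hN⟩ := (fam R).exists_good ρ
  have hNf := hN.fix
  rw [Ut_unit] at hNf
  -- `N` is a line
  have hline : ∀ v ∈ N, v ≠ 0 → ∀ t : T, ∃ c : k, ∀ w ∈ N, ρ (t : Y) w = c • w := by
    intro v hv hv0 t
    have : Nontrivial N := ⟨⟨⟨v, hv⟩, 0, fun h => hv0 (congrArg Subtype.val h)⟩⟩
    have hmaps : ∀ w ∈ N, ρ (t : Y) w ∈ N := fun w hw => hN.simp.inv t t.2 w hw
    obtain ⟨c, hc⟩ := Module.End.exists_eigenvalue ((ρ (t : Y)).restrict hmaps)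
    obtain ⟨w, hw⟩ := hc.exists_hasEigenvector
    refine ⟨c, ?_⟩
    have h1 : Ivt ρ T (N ⊓ LinearMap.ker (ρ (t : Y) - c • (LinearMap.id : V →ₗ[k] V))) := by
      rintro s hs x ⟨hx, hx'⟩
      refine ⟨hN.simp.inv s hs x hx, ?_⟩
      change (ρ (t : Y) - c • (LinearMap.id : V →ₗ[k] V)) x = 0 at hx'
      change (ρ (t : Y) - c • (LinearMap.id : V →ₗ[k] V)) (ρ s x) = 0
      rw [LinearMap.sub_apply, LinearMap.smul_apply, LinearMap.id_apply] at hx' ⊢
      rw [← rho_mul, ← hT s hs t t.2, rho_mul, ← map_smul, ← map_sub, hx', map_zero]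
    have h2 := hN.simp.simple _ inf_le_left h1
    have h3 : N ⊓ LinearMap.ker (ρ (t : Y) - c • (LinearMap.id : V →ₗ[k] V)) ≠ ⊥ := by
      intro h4
      have hw0 : (w : V) ∈ N ⊓ LinearMap.ker (ρ (t : Y) - c • (LinearMap.id : V →ₗ[k] V)) := by
        refine ⟨w.2, ?_⟩
        change (ρ (t : Y) - c • (LinearMap.id : V →ₗ[k] V)) (w : V) = 0
        rw [LinearMap.sub_apply, LinearMap.smul_apply, LinearMap.id_apply, sub_eq_zero]
        have := hw.apply_eq_smul
        exact congrArg Subtype.val this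
      rw [h4, Submodule.mem_bot] at hw0
      exact hw.2 (Subtype.ext hw0)
    have h4 := h2.resolve_left h3
    intro x hx
    rw [← h4] at hx
    have h5 : (ρ (t : Y) - c • (LinearMap.id : V →ₗ[k] V)) x = 0 := hx.2
    rw [LinearMap.sub_apply, LinearMap.smul_apply, LinearMap.id_apply, sub_eq_zero] at h5
    exact h5
  obtain ⟨m, hm, hm0⟩ := (Submodule.ne_bot_iff N).1 hN.simp.ne
  choose c hc using hline m hm hm0
  have hc1 : ∀ s t : T, c (s * t) = c s * c t := by
    intro s t
    have h1 := hc (s * t) m hm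
    rw [Subgroup.coe_mul, rho_mul, hc t m hm, map_smul, hc s m hm, smul_smul] at h1
    have h2 := sub_eq_zero.2 h1
    rw [← sub_smul] at h2
    have h3 := sub_eq_zero.1 ((smul_eq_zero.1 h2).resolve_right hm0)
    rw [← h3, mul_comm]
  have hc2 : c 1 = 1 := by
    have h1 := hc 1 m hm
    rw [Subgroup.coe_one, rho_one] at h1
    have h2 := sub_eq_zero.2 h1
    nth_rewrite 1 [← one_smul k m] at h2
    rw [← sub_smul] at h2
    exact (sub_eq_zero.1 ((smul_eq_zero.1 h2).resolve_right hm0)).symm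
  let χ0 : T →* k := { toFun := c, map_one' := hc2, map_mul' := hc1 }
  let χ : T →* kˣ := χ0.toHomUnits
  have hχ : ∀ t, (χ t : k) = c t := fun t => rfl
  have hNm : N = k ∙ m := by
    have h1 : Ivt ρ T (k ∙ m) := by
      intro t ht v hv
      obtain ⟨a, rfl⟩ := Submodule.mem_span_singleton.1 hv
      rw [map_smul, hc ⟨t, ht⟩ m hm]
      exact Submodule.smul_mem _ _ (Submodule.smul_mem _ _ (Submodule.mem_span_singleton_self m))
    refine ((hN.simp.simple _ ((Submodule.span_singleton_le_iff_mem m N).2 hm) h1).resolve_left ?_).symm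
    rw [Submodule.span_singleton_eq_bot]
    exact hm0
  have hl : ∀ i, ∃ a : k, Ti n X ρ i m = a • m := by
    intro i
    have h1 := hN.st () (Finset.mem_univ ()) i m hm
    rw [hNm] at h1
    obtain ⟨a, ha⟩ := Submodule.mem_span_singleton.1 h1
    exact ⟨a, ha.symm⟩
  choose l hl using hl
  exact ⟨χ, l, m, hm0, hNf hm, fun t => hc t m hm, hl⟩

/-! ### isomorphism -/

variable {V' : Type*} [AddCommGroup V'] [Module k V'] {ρ' : Y →* Module.End k V'}

/-- the direct sum of two representations -/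
def prodRep (ρ : Y →* Module.End k V) (ρ' : Y →* Module.End k V') : Y →* Module.End k (V × V') where
  toFun g := (ρ g).prodMap (ρ' g)
  map_one' := by
    refine LinearMap.ext fun x => Prod.ext ?_ ?_
    · change ρ 1 x.1 = x.1
      rw [rho_one]
    · change ρ' 1 x.2 = x.2
      rw [rho_one]
  map_mul' a b := by
    refine LinearMap.ext fun x => Prod.ext ?_ ?_
    · change ρ (a * b) x.1 = ρ a (ρ b x.1)
      rw [rho_mul]
    · change ρ' (a * b) x.2 = ρ' a (ρ' b x.2)
      rw [rho_mul]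

theorem prodRep_apply (g : Y) (x : V × V') : prodRep ρ ρ' g x = (ρ g x.1, ρ' g x.2) := rfl

theorem Ti_prodRep (i : I) (x : V × V') :
    Ti n X (prodRep ρ ρ') i x = (Ti n X ρ i x.1, Ti n X ρ' i x.2) := by
  classical
  let _ := Fintype.ofFinite (X (sr i))
  rw [Ti_apply, Ti_apply, Ti_apply, sg_def, sg_def, sg_def]
  refine Prod.ext ?_ ?_
  · rw [Prod.fst_sum]; rfl
  · rw [Prod.snd_sum]; rfl

/-- **Two irreducible representations with the same weight are isomorphic.** -/
theorem Wt.exists_equiv [Finite W] [Fact p.Prime] [CharP k p] [FiniteDimensional k V] [FiniteDimensional k V']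
    (R : RGD cs h p T n X) (hG : GG cs h T X = ⊤) {χ : T →* kˣ} {l : I → k} {m : V} {m' : V'}
    (hm : Wt cs h n X ρ χ l m) (hρ : Irr ρ) (hm' : Wt cs h n X ρ' χ l m') (hρ' : Irr ρ') :
    ∃ e : V ≃ₗ[k] V', ∀ g v, e (ρ g v) = ρ' g (e v) := by
  classical
  let σ := prodRep ρ ρ'
  let m0 : V × V' := (m, m')
  have hm0 : Wt cs h n X σ χ l m0 := by
    refine ⟨fun h0 => hm.ne (congrArg Prod.fst h0), ?_, ?_, ?_⟩
    · intro u hu
      exact Prod.ext (hm.fix u hu) (hm'.fix u hu)
    · intro t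
      exact Prod.ext (hm.tor t) (hm'.tor t)
    · intro i
      rw [Ti_prodRep]
      exact Prod.ext (hm.ti i) (hm'.ti i)
  let S : Submodule k (V × V') := Sp σ (UN cs h X) (k ∙ m0)
  have hS : ∀ g, ∀ x ∈ S, σ g x ∈ S := fun g x hx => hm0.stable R hG g hx
  have hm0S : m0 ∈ S := le_Sp σ (Submodule.mem_span_singleton_self m0)
  obtain ⟨φ, hφ, hφm⟩ := hm.exists_functional R hG hρ
  obtain ⟨φ', hφ', hφm'⟩ := hm'.exists_functional R hG hρ'
  -- the functional which vanishes on `S`
  have hΦ : ∀ x ∈ S, φ' m' * φ x.1 - φ m * φ' x.2 = 0 := by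
    intro x hx
    induction hx using Submodule.span_induction with
    | mem y hy =>
      obtain ⟨b, hb, v, hv, rfl⟩ := hy
      obtain ⟨c, rfl⟩ := Submodule.mem_span_singleton.1 hv
      change φ' m' * φ (ρ b (c • m)) - φ m * φ' (ρ' b (c • m')) = 0
      rw [hφ b hb, hφ' b hb, map_smul, map_smul, smul_eq_mul, smul_eq_mul]
      ring
    | zero => simp
    | add y z _ _ hy hz =>
      have e : φ' m' * φ (y + z).1 - φ m * φ' (y + z).2 =
          (φ' m' * φ y.1 - φ m * φ' y.2) + (φ' m' * φ z.1 - φ m * φ' z.2) := by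
        rw [Prod.fst_add, Prod.snd_add, map_add, map_add]; ring
      rw [e, hy, hz, add_zero]
    | smul c y _ hy =>
      have e : φ' m' * φ (c • y).1 - φ m * φ' (c • y).2 = c * (φ' m' * φ y.1 - φ m * φ' y.2) := by
        rw [Prod.smul_fst, Prod.smul_snd, map_smul, map_smul, smul_eq_mul, smul_eq_mul]; ring
      rw [e, hy, mul_zero]
  -- the intersections with the factors
  have h1 : ∀ v : V, (v, (0 : V')) ∈ S → v = 0 := by
    have h2 := hρ.2 (S.comap (LinearMap.inl k V V')) (fun g v hv => by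
      have h3 := hS g _ hv
      have h4 : σ g (v, (0 : V')) = (ρ g v, 0) := by rw [prodRep_apply, map_zero]
      change (ρ g v, (0 : V')) ∈ S
      rw [← h4]
      exact h3)
    rcases h2 with h2 | h2
    · intro v hv
      have : v ∈ S.comap (LinearMap.inl k V V') := hv
      rw [h2] at this
      exact this
    · exfalso
      have h3 : m ∈ S.comap (LinearMap.inl k V V') := by rw [h2]; trivial
      have h4 := hΦ (m, 0) h3
      change φ' m' * φ m - φ m * φ' 0 = 0 at h4
      rw [map_zero, mul_zero, sub_zero] at h4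
      rcases mul_eq_zero.1 h4 with h5 | h5
      · exact hφm' h5
      · exact hφm h5
  have h1' : ∀ v : V', ((0 : V), v) ∈ S → v = 0 := by
    have h2 := hρ'.2 (S.comap (LinearMap.inr k V V')) (fun g v hv => by
      have h3 := hS g _ hv
      have h4 : σ g ((0 : V), v) = (0, ρ' g v) := by rw [prodRep_apply, map_zero]
      change ((0 : V), ρ' g v) ∈ S
      rw [← h4]
      exact h3)
    rcases h2 with h2 | h2
    · intro v hv
      have : v ∈ S.comap (LinearMap.inr k V V') := hv
      rw [h2] at this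
      exact this
    · exfalso
      have h3 : m' ∈ S.comap (LinearMap.inr k V V') := by rw [h2]; trivial
      have h4 := hΦ (0, m') h3
      change φ' m' * φ 0 - φ m * φ' m' = 0 at h4
      rw [map_zero, mul_zero, zero_sub, neg_eq_zero] at h4
      rcases mul_eq_zero.1 h4 with h5 | h5
      · exact hφm h5
      · exact hφm' h5
  -- the projections
  let f : S →ₗ[k] V := (LinearMap.fst k V V').comp S.subtype
  let f' : S →ₗ[k] V' := (LinearMap.snd k V V').comp S.subtype
  have hf : Function.Injective f := by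
    rw [injective_iff_map_eq_zero]
    rintro ⟨⟨a, b⟩, hx⟩ (h0 : a = 0)
    subst h0
    have := h1' b hx
    subst this
    rfl
  have hf' : Function.Injective f' := by
    rw [injective_iff_map_eq_zero]
    rintro ⟨⟨a, b⟩, hx⟩ (h0 : b = 0)
    subst h0
    have := h1 a hx
    subst this
    rfl
  have hfs : Function.Surjective f := by
    rw [← LinearMap.range_eq_top]
    refine (hρ.2 (LinearMap.range f) ?_).resolve_left ?_
    · rintro g _ ⟨x, rfl⟩
      exact ⟨⟨σ g x.1, hS g x.1 x.2⟩, rfl⟩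
    · intro h0
      apply hm.ne
      have : m ∈ LinearMap.range f := ⟨⟨m0, hm0S⟩, rfl⟩
      rw [h0] at this
      exact this
  have hfs' : Function.Surjective f' := by
    rw [← LinearMap.range_eq_top]
    refine (hρ'.2 (LinearMap.range f') ?_).resolve_left ?_
    · rintro g _ ⟨x, rfl⟩
      exact ⟨⟨σ g x.1, hS g x.1 x.2⟩, rfl⟩
    · intro h0
      apply hm'.ne
      have : m' ∈ LinearMap.range f' := ⟨⟨m0, hm0S⟩, rfl⟩
      rw [h0] at this
      exact this
  let E := LinearEquiv.ofBijective f ⟨hf, hfs⟩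
  let E' := LinearEquiv.ofBijective f' ⟨hf', hfs'⟩
  refine ⟨E.symm.trans E', fun g v => ?_⟩
  obtain ⟨x, rfl⟩ := E.surjective v
  have e1 : ρ g (E x) = E ⟨σ g x.1, hS g x.1 x.2⟩ := rfl
  rw [e1, LinearEquiv.trans_apply, LinearEquiv.trans_apply, LinearEquiv.symm_apply_apply,
    LinearEquiv.symm_apply_apply]
  rfl

end

end Cfsg.Agent.H945
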